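import Mathlib.Tactic

/-!
# The inequality for the values at two classes of elements of order three
-/

set_option autoImplicit false

namespace CfsgLib.SylowThreeNine

open Finset

variable {ι : Type*} [Fintype ι] (a b : ι → ℤ)

/-- Two integers three apart with negative product. -/
theorem neg_product {p q : ℤ} (hd : (p - q) ^ 2 = 9) (hneg : p * q < 0) :
    p * q = -2 ∧ (p + q = 1 ∨ p + q = -1) := by
  have h7 : p * p + q * q ≤ 7 := by nlinarith
  have hp : -2 ≤ p ∧ p ≤ 2 := ⟨by nlinarith [mul_self_nonneg q, mul_self_nonneg (p + 3)],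
    by nlinarith [mul_self_nonneg q, mul_self_nonneg (p - 3)]⟩
  have hq : -2 ≤ q ∧ q ≤ 2 := ⟨by nlinarith [mul_self_nonneg p, mul_self_nonneg (q + 3)],
    by nlinarith [mul_self_nonneg p, mul_self_nonneg (q - 3)]⟩
  obtain ⟨hp1, hp2⟩ := hp
  obtain ⟨hq1, hq2⟩ := hq
  interval_cases p <;> interval_cases q <;> omega

/-- At two classes with centralisers of order nine a character takes equal values `0, ±1` or
values with product `-2` and sum `±1`. -/
theorem pair_values (ha : ∑ i, a i * a i = 9) (hb : ∑ i, b i * b i = 9) (hab : ∑ i, a i * b i = 0)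
    (h3 : ∀ i, (3 : ℤ) ∣ a i - b i) {i₀ : ι} (ha0 : a i₀ = 1) (hb0 : b i₀ = 1) (i : ι) :
    (a i = b i ∧ -1 ≤ a i ∧ a i ≤ 1) ∨
      (a i * b i = -2 ∧ (a i + b i = 1 ∨ a i + b i = -1)) := by
  classical
  have hd : ∑ j, (a j - b j) ^ 2 = 18 := by
    have e : ∀ j, (a j - b j) ^ 2 = a j * a j + b j * b j - 2 * (a j * b j) := fun j => by ring
    simp only [e, Finset.sum_sub_distrib, Finset.sum_add_distrib, ← Finset.mul_sum, ha, hb, hab]
    norm_num
  set D := univ.filter fun j => a j ≠ b j with hD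
  have hnine : ∀ j ∈ D, 9 ≤ (a j - b j) ^ 2 := by
    intro j hj
    obtain ⟨k, hk⟩ := h3 j
    have hk0 : k ≠ 0 := fun e => (Finset.mem_filter.1 hj).2 (by rw [e] at hk; linarith)
    rw [hk]
    nlinarith [Int.one_le_abs hk0, sq_abs k]
  have hsumD : ∑ j ∈ D, (a j - b j) ^ 2 = 18 := by
    rw [← hd]
    refine Finset.sum_subset (Finset.subset_univ _) fun j _ hj => ?_
    rw [hD, Finset.mem_filter, not_and, not_not] at hj
    rw [hj (Finset.mem_univ _), sub_self]
    norm_num
  have hcard2 : D.card = 2 := by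
    have h1 : D.card * 9 ≤ 18 := by
      have h2 := Finset.card_nsmul_le_sum D (fun j => (a j - b j) ^ 2) 9 hnine
      rw [hsumD, nsmul_eq_mul] at h2
      exact_mod_cast h2
    have h0 : D.card ≠ 0 := fun e => by
      rw [Finset.card_eq_zero] at e
      rw [e, Finset.sum_empty] at hsumD
      norm_num at hsumD
    have h1' : D.card ≠ 1 := fun e => by
      obtain ⟨j, hj⟩ := Finset.card_eq_one.1 e
      rw [hj, Finset.sum_singleton] at hsumD
      obtain ⟨k, hk⟩ := h3 j
      rw [hk] at hsumD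
      have hk2 : k ^ 2 = 2 := by linarith
      have : -2 ≤ k ∧ k ≤ 2 := ⟨by nlinarith, by nlinarith⟩
      obtain ⟨hk1, hk3⟩ := this
      interval_cases k <;> norm_num at hk2
    omega
  obtain ⟨p, q, hpq, hDpq⟩ := Finset.card_eq_two.1 hcard2
  rw [hDpq, Finset.sum_pair hpq] at hsumD
  have hp9 := hnine p (by rw [hDpq]; simp)
  have hq9 := hnine q (by rw [hDpq]; simp)
  have hp : (a p - b p) ^ 2 = 9 := by linarith
  have hq : (a q - b q) ^ 2 = 9 := by linarith
  set R := (univ : Finset ι) \ D with hR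
  have hRab : ∀ j ∈ R, a j = b j := by
    intro j hj
    by_contra h
    exact (Finset.mem_sdiff.1 hj).2 (Finset.mem_filter.2 ⟨Finset.mem_univ _, h⟩)
  have split : ∀ F : ι → ℤ, ∑ j, F j = F p + F q + ∑ j ∈ R, F j := by
    intro F
    rw [← Finset.sum_sdiff (Finset.subset_univ D), hDpq, Finset.sum_pair hpq, hR, hDpq, add_comm]
  rw [split] at ha hb hab
  have e1 : ∑ j ∈ R, b j * b j = ∑ j ∈ R, a j * a j :=
    Finset.sum_congr rfl fun j hj => by rw [hRab j hj]
  have e2 : ∑ j ∈ R, a j * b j = ∑ j ∈ R, a j * a j :=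
    Finset.sum_congr rfl fun j hj => by rw [hRab j hj]
  rw [e1] at hb
  rw [e2] at hab
  set W := ∑ j ∈ R, a j * a j with hW
  have h0R : i₀ ∈ R := by
    simp [hR, hD, ha0, hb0]
  have hW1 : 1 ≤ W := by
    have := Finset.single_le_sum (f := fun j => a j * a j) (fun j _ => mul_self_nonneg _) h0R
    simp only [ha0, mul_one] at this
    exact this
  -- the two products agree
  have hPP : a p * b p = a q * b q := by
    have h1 : (a p - b p) ^ 2 * (a p + b p) ^ 2 = (a q - b q) ^ 2 * (a q + b q) ^ 2 := by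
      rw [← mul_pow, ← mul_pow,
        show (a p - b p) * (a p + b p) = -((a q - b q) * (a q + b q)) by linarith]
      ring
    rw [hp, hq] at h1
    have h2 := mul_left_cancel₀ (by norm_num : (9 : ℤ) ≠ 0) h1
    linarith [show (a p + b p) ^ 2 = (a p - b p) ^ 2 + 4 * (a p * b p) by ring,
      show (a q + b q) ^ 2 = (a q - b q) ^ 2 + 4 * (a q * b q) by ring]
  have hP2 := neg_product hp (show a p * b p < 0 by linarith)
  have hW4 : W = 4 := by linarith [hP2.1]
  by_cases hi : i ∈ D
  · right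
    rw [hDpq, Finset.mem_insert, Finset.mem_singleton] at hi
    rcases hi with rfl | rfl
    · exact hP2
    · exact neg_product hq (by linarith [hP2.1])
  · left
    have hiR : i ∈ R := Finset.mem_sdiff.2 ⟨Finset.mem_univ _, hi⟩
    refine ⟨hRab i hiR, ?_⟩
    by_cases h0 : i = i₀
    · rw [h0, ha0]; norm_num
    have h2 : a i * a i + a i₀ * a i₀ ≤ W := by
      rw [← Finset.sum_pair (f := fun j => a j * a j) h0, hW]
      exact Finset.sum_le_sum_of_subset_of_nonneg
        (Finset.insert_subset hiR (Finset.singleton_subset_iff.2 h0R))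
        fun j _ _ => mul_self_nonneg _
    rw [ha0, hW4] at h2
    constructor <;> nlinarith

/-- A positive lower bound for the symmetrised structure constant. -/
theorem triple_bound (f : ι → ℕ) (hf : ∀ i, 0 < f i) (ha : ∑ i, a i * a i = 9)
    (hb : ∑ i, b i * b i = 9) (hab : ∑ i, a i * b i = 0) (h3 : ∀ i, (3 : ℤ) ∣ a i - b i)
    {i₀ : ι} (ha0 : a i₀ = 1) (hb0 : b i₀ = 1) (hf0 : f i₀ = 1)
    (heq : ∀ i, i ≠ i₀ → a i = -1 → b i = -1 → 8 ≤ f i)
    (hdiff : ∀ i, a i ≠ b i → a i + b i = 1 → 5 ≤ f i) :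
    (9 / 20 : ℚ) ≤ ∑ i, ((a i * b i * (a i + b i) : ℤ) : ℚ) / (f i : ℚ) := by
  classical
  let w : ι → ℚ := fun i => ((a i * b i * (a i + b i) : ℤ) : ℚ) / (f i : ℚ)
  let l : ι → ℚ := fun i => -(((a i : ℚ) - b i) ^ 2) / 10 - ((a i : ℚ) * b i) / 4
  have key : ∀ i, i ≠ i₀ → l i ≤ w i := by
    intro i hi
    have hfpos : (0 : ℚ) < f i := by exact_mod_cast hf i
    rcases pair_values a b ha hb hab h3 ha0 hb0 i with ⟨e, h1, h2⟩ | ⟨hp, hs⟩
    · simp only [l, w, ← e]
      rcases (show a i = -1 ∨ a i = 0 ∨ a i = 1 by omega) with h | h | h <;> rw [h]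
      · have h8 : (8 : ℚ) ≤ f i := by exact_mod_cast heq i hi h (e ▸ h)
        push_cast
        rw [le_div_iff₀ hfpos]
        norm_num
        linarith
      · norm_num
      · push_cast
        rw [le_div_iff₀ hfpos]
        norm_num
        linarith
    · have hd : ((a i : ℚ) - b i) ^ 2 = 9 := by
        have : (a i - b i) ^ 2 = 9 := by rcases hs with e | e <;> nlinarith
        exact_mod_cast this
      have hpq : (a i : ℚ) * b i = -2 := by exact_mod_cast hp
      simp only [l, w, hd, hpq, hp]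
      rcases hs with e | e <;> rw [e]
      · have h5 : (5 : ℚ) ≤ f i := by
          exact_mod_cast hdiff i (fun h => by rw [h] at hp; nlinarith [mul_self_nonneg (b i)]) e
        rw [le_div_iff₀ hfpos]
        push_cast
        linarith
      · rw [le_div_iff₀ hfpos]
        push_cast
        linarith
  have hl : ∑ i, l i = -(18 : ℚ) / 10 := by
    have e1 : ∑ i, (a i : ℚ) * a i = 9 := by exact_mod_cast ha
    have e2 : ∑ i, (b i : ℚ) * b i = 9 := by exact_mod_cast hb
    have e3 : ∑ i, (a i : ℚ) * b i = 0 := by exact_mod_cast hab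
    have e : ∀ i, l i = -(1 / 10) * ((a i : ℚ) * a i) + -(1 / 10) * ((b i : ℚ) * b i) +
        -(1 / 20) * ((a i : ℚ) * b i) := fun i => by simp only [l]; ring
    simp only [e, Finset.sum_add_distrib, ← Finset.mul_sum, e1, e2, e3]
    norm_num
  have hl0 : l i₀ = -1 / 4 := by simp only [l, ha0, hb0]; norm_num
  have hw0 : w i₀ = 2 := by simp only [w, ha0, hb0, hf0]; norm_num
  show (9 / 20 : ℚ) ≤ ∑ i, w i
  have hle : ∑ i ∈ univ.erase i₀, l i ≤ ∑ i ∈ univ.erase i₀, w i :=
    Finset.sum_le_sum fun i hi => key i (Finset.ne_of_mem_erase hi)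
  rw [← Finset.add_sum_erase _ _ (Finset.mem_univ i₀), hl0] at hl
  rw [← Finset.add_sum_erase _ _ (Finset.mem_univ i₀), hw0]
  linarith

end CfsgLib.SylowThreeNine
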