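import Cfsg.Agent.SylowThreeNine.Values
import Cfsg.Agent.SylowThreeNine.Inequality
import Cfsg.Agent.PrincipalBlock.Kernel
import Cfsg.Agent.Small.SylowArgs
import Cfsg.Agent.S0496

/-!
# A simple group with a self-centralising Sylow 3-subgroup of order nine has order 360

Here the nontrivial elements of the Sylow subgroup have that subgroup as centraliser, and not all
of them are conjugate.
-/

set_option autoImplicit false
set_option linter.style.haveILetI false

namespace CfsgLib.SylowThreeNine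

open CfsgLib.PrincipalBlock
open scoped ComplexConjugate

universe u

/-- Inverse of a power with exponent in `Fin 3`. -/
theorem fin_pow_inv {G : Type u} [Group G] {z : G} (hz : z * z * z = 1) (i : Fin 3) :
    (z ^ (i : ℕ))⁻¹ = z ^ ((-i : Fin 3) : ℕ) := by
  have key : ∀ i : Fin 3, 3 ∣ (i : ℕ) + ((-i : Fin 3) : ℕ) := by decide
  obtain ⟨k, hk⟩ := key i
  refine inv_eq_of_mul_eq_one_right ?_
  rw [← pow_add, hk, pow_mul, show z ^ 3 = 1 by rw [pow_succ, pow_two, hz], one_pow]

/-- The quotient of a generator by a power with exponent in `Fin 3`. -/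
theorem fin_pow_sub {G : Type u} [Group G] {z : G} (hz : z * z * z = 1) (i : Fin 3) :
    (z ^ (i : ℕ))⁻¹ * z = z ^ ((1 - i : Fin 3) : ℕ) := by
  have key : ∀ i : Fin 3, ∃ k < 2, (i : ℕ) + ((1 - i : Fin 3) : ℕ) = 3 * k + 1 := by decide
  obtain ⟨k, -, hk⟩ := key i
  rw [inv_mul_eq_iff_eq_mul, ← pow_add, hk, pow_succ, pow_mul,
    show z ^ 3 = 1 by rw [pow_succ, pow_two, hz], one_pow, one_mul]

/-- The class of `x` in the coordinates. -/
def axisPoint (p : Fin 3 × Fin 3) : Bool := (p.1 == 0) != (p.2 == 0)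

/-- The class of `x x'` in the coordinates. -/
def crossPoint (p : Fin 3 × Fin 3) : Bool := p.1 != 0 && p.2 != 0

namespace Setup

variable {G : Type u} [Group G] [Fintype G] (c : Setup G)
  (hC : ∀ s ∈ c.S, s ≠ 1 → Subgroup.centralizer ({s} : Set G) = c.S)

include hC

theorem mem_of_commute {s g : G} (hs : s ∈ c.S) (hs1 : s ≠ 1) (h : g * s = s * g) : g ∈ c.S := by
  rw [← hC s hs hs1]
  exact Subgroup.mem_centralizer_singleton_iff.2 h

/-- An element of the normaliser outside `S` with square in `S` inverts `S`. -/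
theorem inverts {n : G} (hn : n ∈ Subgroup.normalizer (c.S : Set G)) (hn1 : n ∉ c.S)
    (hsq : n * n ∈ c.S) {s : G} (hs : s ∈ c.S) : n * s * n⁻¹ = s⁻¹ := by
  have hs' : n * s * n⁻¹ ∈ c.S := (Subgroup.mem_normalizer_iff.1 hn s).1 hs
  have hfix : n * (s * (n * s * n⁻¹)) * n⁻¹ = s * (n * s * n⁻¹) := by
    calc n * (s * (n * s * n⁻¹)) * n⁻¹ = n * s * n⁻¹ * (n * n * s * (n * n)⁻¹) := by group
      _ = n * s * n⁻¹ * s := by rw [c.comm _ hsq s hs, mul_inv_cancel_right]
      _ = _ := c.comm _ hs' s hs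
  by_contra hne
  refine hn1 (c.mem_of_commute hC (mul_mem hs hs') (fun e => hne ?_) (mul_inv_eq_iff_eq_mul.1 hfix))
  exact eq_inv_of_mul_eq_one_right e

theorem real_of_inverts {n : G} (hn : n ∈ Subgroup.normalizer (c.S : Set G)) (hn1 : n ∉ c.S)
    (hsq : n * n ∈ c.S) {s : G} (hs : s ∈ c.S) : IsConj s s⁻¹ :=
  isConj_iff.2 ⟨n, c.inverts hC hn hn1 hsq hs⟩

theorem card_centralizer {s : G} (hs : s ∈ c.S) (hs1 : s ≠ 1) :
    Nat.card (Subgroup.centralizer ({s} : Set G)) = 9 := by rw [hC s hs hs1, c.card_eq]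

/-- Values at a real element of `S` and the equation for two classes. -/
theorem triple_eq {u v x : G} (hu : u ∈ c.S) (hu1 : u ≠ 1) (hv : v ∈ c.S) (hv1 : v ≠ 1)
    (hx : x ∈ c.S) (hx1 : x ≠ 1) (hnot : ¬ (IsConj x⁻¹ u ∧ IsConj x⁻¹ v))
    {a b d : Cfsg.IrrCharacter G → ℤ} (ha : ∀ χ, (χ.1 : G → ℂ) u = a χ)
    (hb : ∀ χ, (χ.1 : G → ℂ) v = b χ) (hd : ∀ χ, (χ.1 : G → ℂ) x = d χ)
    {f : Cfsg.IrrCharacter G → ℕ} (hf : ∀ χ, (χ.1 : G → ℂ) 1 = f χ) :
    81 * (Nat.card {w : c.S // IsConj u (w : G) ∧ IsConj v ((w : G)⁻¹ * x)} : ℚ) =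
      (Nat.card G : ℚ) * ∑ χ, ((d χ * (a χ * b χ) : ℤ) : ℚ) / (f χ : ℚ) := by
  have h := pairs_eq u v x
  rw [c.card_factors hx hx1 (c.exp u hu) (c.exp v hv) hnot, c.card_centralizer hC hu hu1,
    c.card_centralizer hC hv hv1] at h
  simp only [ha, hb, hd, hf, map_intCast] at h
  have h' : (((81 * (Nat.card {w : c.S // IsConj u (w : G) ∧ IsConj v ((w : G)⁻¹ * x)} : ℚ)) : ℚ) : ℂ) =
      ((((Nat.card G : ℚ) * ∑ χ, ((d χ * (a χ * b χ) : ℤ) : ℚ) / (f χ : ℚ)) : ℚ) : ℂ) := by
    push_cast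
    simp only [mul_div_assoc] at h ⊢
    linear_combination h
  exact_mod_cast h'

/-- The two cases for the order of the normaliser. -/
theorem index_cases [IsSimpleGroup G] (hG : ¬ IsMulCommutative G) {a b : G} (ha : a ∈ c.S)
    (ha1 : a ≠ 1) (hb : b ∈ c.S) (hb1 : b ≠ 1) (hab : ¬ IsConj a b) :
    c.S.relIndex (Subgroup.normalizer (c.S : Set G)) = 2 ∨
      c.S.relIndex (Subgroup.normalizer (c.S : Set G)) = 4 := by
  classical
  set N := Subgroup.normalizer (c.S : Set G) with hN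
  set K := c.S.subgroupOf N
  haveI : K.Normal := Subgroup.normal_in_normalizer
  let orb : ∀ s : G, s ∈ c.S → s ≠ 1 → N ⧸ K → {g : c.S // g ≠ 1} := fun s hs hs1 q =>
    ⟨⟨(q.out : G) * s * (q.out : G)⁻¹, (Subgroup.mem_normalizer_iff.1 q.out.2 s).1 hs⟩,
      fun e => hs1 (conj_eq_one_iff.1 (congrArg Subtype.val e))⟩
  have hinj : ∀ s hs hs1, Function.Injective (orb s hs hs1) := by
    intro s hs hs1 q q' e
    have e' : (q.out : G) * s * (q.out : G)⁻¹ = (q'.out : G) * s * (q'.out : G)⁻¹ :=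
      congrArg (fun g : {g : c.S // g ≠ 1} => (g.1 : G)) e
    have hm : ((q'.out : G)⁻¹ * (q.out : G)) ∈ c.S := c.mem_of_commute hC hs hs1 (by
      calc (q'.out : G)⁻¹ * (q.out : G) * s
          = (q'.out : G)⁻¹ * ((q.out : G) * s * (q.out : G)⁻¹) * (q.out : G) := by group
        _ = _ := by rw [e']; group)
    rw [← QuotientGroup.out_eq' q, ← QuotientGroup.out_eq' q']
    exact (QuotientGroup.eq.2 (show (q'.out)⁻¹ * q.out ∈ K from hm)).symm
  have hk : Nat.card (N ⧸ K) = c.S.relIndex N := rfl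
  let F : (N ⧸ K) ⊕ (N ⧸ K) → {g : c.S // g ≠ 1} := Sum.elim (orb a ha ha1) (orb b hb hb1)
  have hF : Function.Injective F := by
    refine (hinj a ha ha1).sumElim (hinj b hb hb1) fun q q' e => hab ?_
    have e' : (q.out : G) * a * (q.out : G)⁻¹ = (q'.out : G) * b * (q'.out : G)⁻¹ :=
      congrArg (fun g : {g : c.S // g ≠ 1} => (g.1 : G)) e
    exact (isConj_iff.2 ⟨_, e'⟩).trans (isConj_iff.2 ⟨_, rfl⟩).symm
  have hcard : Nat.card {g : c.S // g ≠ 1} = 8 := by
    rw [Nat.card_eq_fintype_card, Fintype.card_subtype_compl, ← Nat.card_eq_fintype_card, c.card_eq]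
    simp
  have h8 := Nat.card_le_card_of_injective F hF
  rw [Nat.card_sum, hcard, hk] at h8
  have h1 : c.S.relIndex N ≠ 1 := by
    intro e
    haveI : Fact (Nat.Prime 3) := ⟨Nat.prime_three⟩
    have hfac : (Nat.card G).factorization 3 = 2 := by
      have h2 : 2 ≤ (Nat.card G).factorization 3 :=
        (Nat.prime_three.pow_dvd_iff_le_factorization Nat.card_pos.ne').1
          (by rw [show (3 : ℕ) ^ 2 = Nat.card c.S by rw [c.card_eq]; norm_num]
              exact Subgroup.card_subgroup_dvd_card _)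
      by_contra h3
      exact c.not_dvd ((pow_dvd_pow 3 (show 3 ≤ _ by omega)).trans (Nat.ordProj_dvd _ 3))
    let P : Sylow 3 G := Sylow.ofCard c.S (by rw [c.card_eq, hfac]; norm_num)
    refine Small.not_normalizer_le_centralizer hG (by
      exact dvd_trans (by norm_num : 3 ∣ 9) (c.card_eq ▸ Subgroup.card_subgroup_dvd_card c.S)) P ?_
    show Subgroup.normalizer (c.S : Set G) ≤ Subgroup.centralizer (c.S : Set G)
    refine (Subgroup.relIndex_eq_one.1 e).trans fun g hg => ?_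
    exact Subgroup.mem_centralizer_iff.2 fun s hs => c.comm s hs g hg
  have h3 : c.S.relIndex N ≠ 3 := by
    intro e
    refine c.not_dvd (dvd_trans ?_ (Subgroup.card_subgroup_dvd_card N))
    have := Subgroup.relIndex_mul_relIndex ⊥ c.S N bot_le Subgroup.le_normalizer
    rw [Subgroup.relIndex_bot_left, Subgroup.relIndex_bot_left, e, c.card_eq] at this
    rw [← this]
  have h0 : c.S.relIndex N ≠ 0 := by
    rw [← hk]; exact Nat.card_pos.ne'
  omega

/-- The normaliser of order 18 is impossible. -/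
theorem relIndex_ne_two [IsSimpleGroup G] (hG : ¬ IsMulCommutative G) :
    c.S.relIndex (Subgroup.normalizer (c.S : Set G)) ≠ 2 := by
  classical
  intro h2
  set N := Subgroup.normalizer (c.S : Set G) with hN
  obtain ⟨n, hn, hn1⟩ : ∃ n ∈ N, n ∉ c.S := SetLike.not_le_iff_exists.1 fun hle => by
    rw [Subgroup.relIndex_eq_one.2 hle] at h2
    omega
  haveI : (c.S.subgroupOf N).Normal := Subgroup.normal_in_normalizer
  have hsqN : ∀ g ∈ N, g * g ∈ c.S := by
    intro g hg
    have h := pow_card_eq_one' (x := (QuotientGroup.mk (⟨g, hg⟩ : N) : N ⧸ c.S.subgroupOf N))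
    rw [show Nat.card (N ⧸ c.S.subgroupOf N) = 2 from h2, ← QuotientGroup.mk_pow,
      QuotientGroup.eq_one_iff, pow_two] at h
    exact h
  have hreal : ∀ {s : G}, s ∈ c.S → IsConj s s⁻¹ := fun {s} hs =>
    c.real_of_inverts hC hn hn1 (hsqN n hn) hs
  have hclass : ∀ {s t : G}, s ∈ c.S → s ≠ 1 → t ∈ c.S → IsConj s t → t = s ∨ t = s⁻¹ := by
    intro s t hs hs1 ht hst
    obtain ⟨g, rfl⟩ := isConj_iff.1 hst
    have hg := c.mem_normalizer_of_conj hs hs1 ht
    by_cases hgS : g ∈ c.S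
    · exact Or.inl (by rw [c.comm g hgS s hs, mul_inv_cancel_right])
    · exact Or.inr (c.inverts hC hg hgS (hsqN g hg) hs)
  obtain ⟨x, hx, hx1⟩ := (Subgroup.bot_or_exists_ne_one c.S).resolve_left fun e => by
    have := c.card_eq
    rw [e, Subgroup.card_bot] at this
    omega
  have hxord : orderOf x = 3 := by
    haveI : Fact (Nat.Prime 3) := ⟨Nat.prime_three⟩
    exact orderOf_eq_prime (c.pow_three hx) hx1
  obtain ⟨y, hy, hyx⟩ : ∃ y ∈ c.S, y ∉ Subgroup.zpowers x :=
    SetLike.not_le_iff_exists.1 fun hle => by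
      have := Subgroup.card_le_of_le hle
      rw [c.card_eq, Nat.card_zpowers, hxord] at this
      omega
  have hy1 : y ≠ 1 := fun e => hyx (e ▸ one_mem _)
  have hxX : ∀ {z : G}, z = x ∨ z = x⁻¹ → z ∈ Subgroup.zpowers x := by
    rintro z (rfl | rfl)
    exacts [Subgroup.mem_zpowers _, inv_mem (Subgroup.mem_zpowers _)]
  -- the four classes
  have hz : x * y ∈ c.S := mul_mem hx hy
  have hw : x * y⁻¹ ∈ c.S := mul_mem hx (inv_mem hy)
  have hz1 : x * y ≠ 1 := fun e => hyx (hxX (Or.inr (eq_inv_of_mul_eq_one_right e)))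
  have hw1 : x * y⁻¹ ≠ 1 := fun e => hyx (hxX (Or.inl (mul_inv_eq_one.1 e).symm))
  have hyy : y * y = y⁻¹ := eq_inv_of_mul_eq_one_left (c.exp y hy)
  have nxy : ¬ IsConj x y := fun h => hyx (hxX (hclass hx hx1 hy h))
  have nxz : ¬ IsConj x (x * y) := fun h => by
    rcases hclass hx hx1 hz h with e | e
    · exact hy1 (mul_eq_left.1 e)
    · refine hyx ?_
      rw [show y = x⁻¹ * (x * y) by group, e]
      exact mul_mem (inv_mem (Subgroup.mem_zpowers _)) (inv_mem (Subgroup.mem_zpowers _))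
  have nxw : ¬ IsConj x (x * y⁻¹) := fun h => by
    rcases hclass hx hx1 hw h with e | e
    · exact hy1 (inv_eq_one.1 (mul_eq_left.1 e))
    · refine hyx ?_
      rw [show y = (x⁻¹ * (x * y⁻¹))⁻¹ by group, e]
      exact inv_mem (mul_mem (inv_mem (Subgroup.mem_zpowers _)) (inv_mem (Subgroup.mem_zpowers _)))
  have nyz : ¬ IsConj y (x * y) := fun h => by
    rcases hclass hy hy1 hz h with e | e
    · exact hx1 (mul_eq_right.1 e)
    · refine nxy ?_
      rw [show x = y by
        calc x = x * y * y⁻¹ := by group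
          _ = y⁻¹ * y⁻¹ := by rw [e]
          _ = y := by rw [← mul_inv_rev, hyy, inv_inv]]
  have nyw : ¬ IsConj y (x * y⁻¹) := fun h => by
    rcases hclass hy hy1 hw h with e | e
    · refine nxy ?_
      rw [mul_inv_eq_iff_eq_mul, hyy] at e
      rw [e]
      exact (hreal hy).symm
    · exact hx1 (mul_eq_right.1 e)
  have nzw : ¬ IsConj (x * y) (x * y⁻¹) := fun h => by
    rcases hclass hz hz1 hw h with e | e
    · refine hy1 ?_
      have e2 : y⁻¹ = y := mul_left_cancel e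
      have := c.exp y hy
      rwa [mul_eq_one_iff_eq_inv.2 e2.symm, one_mul] at this
    · refine nxy ?_
      have e2 : x * y⁻¹ * (x * y) = 1 := by rw [e, inv_mul_cancel]
      rw [c.comm x hx y⁻¹ (inv_mem hy), mul_assoc, ← mul_assoc x x y, c.comm (x * x)
        (mul_mem hx hx) y hy, inv_mul_cancel_left] at e2
      have := c.exp x hx
      rw [e2, one_mul] at this
      exact absurd this hx1
  -- the values
  choose f hf0 hf using fun χ : Cfsg.IrrCharacter G => Characters.exists_degree_pos χ.2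
  choose A hA hA3 using fun χ : Cfsg.IrrCharacter G =>
    exists_value (c.exp x hx) hx1 (hreal hx) χ (hf χ)
  choose B hB hB3 using fun χ : Cfsg.IrrCharacter G =>
    exists_value (c.exp y hy) hy1 (hreal hy) χ (hf χ)
  choose C' hC' hC3 using fun χ : Cfsg.IrrCharacter G =>
    exists_value (c.exp _ hz) hz1 (hreal hz) χ (hf χ)
  choose D hD hD3 using fun χ : Cfsg.IrrCharacter G =>
    exists_value (c.exp _ hw) hw1 (hreal hw) χ (hf χ)
  have nA := sum_value_sq hA (c.card_centralizer hC hx hx1)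
  have nB := sum_value_sq hB (c.card_centralizer hC hy hy1)
  have nC := sum_value_sq hC' (c.card_centralizer hC hz hz1)
  have nD := sum_value_sq hD (c.card_centralizer hC hw hw1)
  set i₀ := trivChar G with hi₀
  have hone : ∀ {g : G} {V : Cfsg.IrrCharacter G → ℤ}, (∀ χ, (χ.1 : G → ℂ) g = V χ) → V i₀ = 1 := by
    intro g V hV
    have h := (hV i₀).symm.trans (trivChar_apply g)
    exact_mod_cast h
  have a0 := hone hA
  have b0 := hone hB
  have c0 := hone hC'
  have d0 := hone hD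
  have hf01 : f i₀ = 1 := by
    have h := (hf i₀).symm.trans (trivChar_apply (1 : G))
    exact_mod_cast h
  have m3 : ∀ {V W : Cfsg.IrrCharacter G → ℤ}, (∀ χ, (3 : ℤ) ∣ (f χ : ℤ) - V χ) →
      (∀ χ, (3 : ℤ) ∣ (f χ : ℤ) - W χ) → ∀ χ, (3 : ℤ) ∣ V χ - W χ := fun {V W} hV hW χ => by
    have h1 := hV χ
    have h2 := hW χ
    omega
  -- the sum over the subgroup
  have hS : ∀ χ, (9 : ℤ) ∣ (f χ : ℤ) + 2 * (A χ + B χ + C' χ + D χ) := by
    intro χ
    haveI : Fintype c.S := Fintype.ofFinite _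
    obtain ⟨m, hm⟩ := exists_sum_eq χ c.S
    have hinv : ∀ {s : G}, s ∈ c.S → (χ : G → ℂ) s⁻¹ = (χ : G → ℂ) s := fun {s} hs =>
      (Characters.classFunction_isConj (Characters.isClassFunction_of_isIrr χ.2) (hreal hs)).symm
    have hmem : ∀ p : Fin 3 × Fin 3, x ^ (p.1 : ℕ) * y ^ (p.2 : ℕ) ∈ c.S :=
      fun p => mul_mem (pow_mem hx _) (pow_mem hy _)
    have hbij : Function.Bijective fun p : Fin 3 × Fin 3 => (⟨_, hmem p⟩ : c.S) := by
      refine (Nat.bijective_iff_injective_and_card _).2 ⟨fun p q e => ?_, by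
        rw [Nat.card_prod, Nat.card_eq_fintype_card (α := Fin 3), c.card_eq, Fintype.card_fin]⟩
      have e' : x ^ (p.1 : ℕ) * y ^ (p.2 : ℕ) = x ^ (q.1 : ℕ) * y ^ (q.2 : ℕ) :=
        congrArg Subtype.val e
      haveI : Fact (Nat.Prime 3) := ⟨Nat.prime_three⟩
      have hyord : orderOf y = 3 := orderOf_eq_prime (c.pow_three hy) hy1
      by_cases h12 : p.2 = q.2
      · rw [h12, mul_left_inj] at e'
        refine Prod.ext (Fin.ext ?_) h12
        rw [pow_inj_mod, hxord, Nat.mod_eq_of_lt p.1.2, Nat.mod_eq_of_lt q.1.2] at e'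
        exact e'
      · exfalso
        have hk : y ^ ((p.2 : ℕ) + 3 - (q.2 : ℕ)) ∈ Subgroup.zpowers x := by
          have e2 : y ^ (p.2 : ℕ) * (y ^ (q.2 : ℕ))⁻¹ = (x ^ (p.1 : ℕ))⁻¹ * x ^ (q.1 : ℕ) := by
            rw [eq_inv_mul_iff_mul_eq, ← mul_assoc, e', mul_inv_cancel_right]
          rw [pow_sub y (by omega), pow_add, c.pow_three hy, mul_one, e2]
          exact mul_mem (inv_mem (pow_mem (Subgroup.mem_zpowers x) _))
            (pow_mem (Subgroup.mem_zpowers x) _)
        refine hyx ?_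
        have hcop : ((p.2 : ℕ) + 3 - (q.2 : ℕ)).Coprime (orderOf y) := by
          rw [hyord, Nat.coprime_comm, Nat.prime_three.coprime_iff_not_dvd]
          intro hd
          exact h12 (Fin.ext (by omega))
        obtain ⟨k, hk'⟩ := exists_pow_eq_self_of_coprime hcop
        rw [← hk']
        exact pow_mem hk k
    rw [← hbij.sum_comp (fun h : c.S => (χ : G → ℂ) h), Fintype.sum_prod_type, c.card_eq] at hm
    simp only [Fin.sum_univ_three, Fin.val_zero, Fin.val_one, Fin.val_two, pow_zero, pow_one,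
      one_mul, mul_one] at hm
    have e3 : (χ : G → ℂ) (x * y ^ 2) = D χ := by rw [pow_two, hyy, hD]
    have e4 : (χ : G → ℂ) (x ^ 2 * y) = D χ := by
      rw [← hinv (mul_mem (pow_mem hx 2) hy), ← hD χ]
      congr 1
      rw [mul_inv_rev, pow_two, eq_inv_of_mul_eq_one_left (c.exp x hx), inv_inv,
        c.comm y⁻¹ (inv_mem hy) x hx]
    have e5 : (χ : G → ℂ) (x ^ 2 * y ^ 2) = C' χ := by
      rw [← hinv (mul_mem (pow_mem hx 2) (pow_mem hy 2)), ← hC' χ]
      congr 1
      rw [mul_inv_rev, pow_two, pow_two, eq_inv_of_mul_eq_one_left (c.exp x hx), hyy, inv_inv,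
        inv_inv, c.comm y hy x hx]
    have e1 : (χ : G → ℂ) (y ^ 2) = B χ := by rw [pow_two, hyy, hinv hy, hB]
    have e2 : (χ : G → ℂ) (x ^ 2) = A χ := by
      rw [pow_two, eq_inv_of_mul_eq_one_left (c.exp x hx), hinv hx, hA]
    rw [hf, hA, hB, hC', e1, e2, e3, e4, e5] at hm
    refine ⟨m, ?_⟩
    have h' : (((f χ : ℤ) + 2 * (A χ + B χ + C' χ + D χ) : ℤ) : ℂ) = ((9 * m : ℤ) : ℂ) := by
      push_cast
      linear_combination hm
    exact_mod_cast h'
  -- degree two is impossible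
  have hker : ∀ {g : G} {V : Cfsg.IrrCharacter G → ℤ}, g ≠ 1 → (∀ χ, (χ.1 : G → ℂ) g = V χ) →
      ∀ χ, χ ≠ i₀ → V χ ≠ (f χ : ℤ) := by
    intro g V hg hV χ hχ e
    refine hχ (eq_trivChar_of_charKer_eq_top ((charKer_normal χ).eq_bot_or_eq_top.resolve_left
      fun hb => hg ?_))
    have h : g ∈ charKer χ := mem_charKer.2 (by rw [hV χ, hf χ, e]; push_cast; ring)
    rwa [hb] at h
  have pAC := pair_values A C' nA nC (sum_value_mul nxz hA hC') (m3 hA3 hC3) a0 c0
  have pAD := pair_values A D nA nD (sum_value_mul nxw hA hD) (m3 hA3 hD3) a0 d0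
  have pBC := pair_values B C' nB nC (sum_value_mul nyz hB hC') (m3 hB3 hC3) b0 c0
  have pBD := pair_values B D nB nD (sum_value_mul nyw hB hD) (m3 hB3 hD3) b0 d0
  have pCD := pair_values C' D nC nD (sum_value_mul nzw hC' hD) (m3 hC3 hD3) c0 d0
  have hbound := triple_bound A B f hf0 nA nB (sum_value_mul nxy hA hB) (m3 hA3 hB3) a0 b0 hf01
    (fun χ hχ ea eb => by
      have kC : C' χ = -1 ∨ C' χ = 2 := by
        rcases pAC χ with ⟨e, -, -⟩ | ⟨e, -⟩ <;> rw [ea] at e <;> omega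
      have kD : D χ = -1 ∨ D χ = 2 := by
        rcases pAD χ with ⟨e, -, -⟩ | ⟨e, -⟩ <;> rw [ea] at e <;> omega
      have h9 := hS χ
      have hfz := hf0 χ
      rw [ea, eb] at h9
      rcases kC with ec | ec <;> rcases kD with ed | ed <;> rw [ec, ed] at h9
      · omega
      · have := hker hw1 hD χ hχ
        rw [ed] at this
        omega
      · have := hker hz1 hC' χ hχ
        rw [ec] at this
        omega
      · rcases pCD χ with ⟨-, -, e⟩ | ⟨e, -⟩
        · omega
        · rw [ec, ed] at e; omega)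
    (fun χ hne hs => by
      have hab : (A χ = 2 ∧ B χ = -1) ∨ (A χ = -1 ∧ B χ = 2) := by
        rcases pair_values A B nA nB (sum_value_mul nxy hA hB) (m3 hA3 hB3) a0 b0 χ with
          ⟨e, -, -⟩ | ⟨hp, -⟩
        · exact absurd e hne
        have hb : B χ = 1 - A χ := by omega
        rw [hb] at hp
        have : (A χ - 2) * (A χ + 1) = 0 := by linarith
        rcases mul_eq_zero.1 this with e | e
        · exact Or.inl ⟨by omega, by omega⟩
        · exact Or.inr ⟨by omega, by omega⟩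
      have h9 := hS χ
      have hχ : χ ≠ i₀ := fun e => hne (by rw [e, a0, b0])
      have hfz := hf0 χ
      have kk : ∀ {V W : ℤ}, V = 2 → ((V = W ∧ -1 ≤ V ∧ V ≤ 1) ∨
          (V * W = -2 ∧ (V + W = 1 ∨ V + W = -1))) → W = -1 := by
        rintro V W rfl (⟨-, -, h⟩ | ⟨h, -⟩) <;> omega
      rcases hab with ⟨ea, eb⟩ | ⟨ea, eb⟩
      · rw [ea, eb, kk ea (pAC χ), kk ea (pAD χ)] at h9
        have := hker hx1 hA χ hχ
        rw [ea] at this
        omega
      · rw [ea, eb, kk eb (pBC χ), kk eb (pBD χ)] at h9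
        have := hker hy1 hB χ hχ
        rw [eb] at this
        omega)
  -- the structure constants vanish
  have hzero : ∀ {s t : G}, s ∈ c.S → s ≠ 1 → t ∈ c.S → t ≠ 1 → t ∉ Subgroup.zpowers s →
      ¬ IsConj s t → ∀ {P Q : Cfsg.IrrCharacter G → ℤ}, (∀ χ, (χ.1 : G → ℂ) s = P χ) →
      (∀ χ, (χ.1 : G → ℂ) t = Q χ) →
      ∑ χ, ((Q χ * (P χ * P χ) : ℤ) : ℚ) / (f χ : ℚ) = 0 := by
    intro s t hs hs1 ht ht1 hts hst P Q hP hQ
    haveI : IsEmpty {w : c.S // IsConj s (w : G) ∧ IsConj s ((w : G)⁻¹ * t)} := by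
      refine ⟨fun w => hts ?_⟩
      have hm : ∀ {v : G}, v = s ∨ v = s⁻¹ → v ∈ Subgroup.zpowers s := by
        rintro v (rfl | rfl)
        exacts [Subgroup.mem_zpowers _, inv_mem (Subgroup.mem_zpowers _)]
      have h1 := hm (hclass hs hs1 w.1.2 w.2.1)
      have h2 := hm (hclass hs hs1 (mul_mem (inv_mem w.1.2) ht) w.2.2)
      have h3 := mul_mem h1 h2
      rwa [mul_inv_cancel_left] at h3
    have h := c.triple_eq hC hs hs1 hs hs1 ht ht1
      (fun h => hst (((hreal ht).trans h.1).symm)) hP hP hQ hf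
    rw [Nat.card_of_isEmpty, Nat.cast_zero, mul_zero, eq_comm, mul_eq_zero] at h
    exact h.resolve_left (Nat.cast_ne_zero.2 Nat.card_pos.ne')
  have hxy' : x ∉ Subgroup.zpowers y := fun h => by
    have hyord : orderOf y = 3 := by
      haveI : Fact (Nat.Prime 3) := ⟨Nat.prime_three⟩
      exact orderOf_eq_prime (c.pow_three hy) hy1
    have := Subgroup.eq_of_le_of_card_ge (Subgroup.zpowers_le.2 h)
      (by rw [Nat.card_zpowers, Nat.card_zpowers, hxord, hyord])
    exact hyx (this ▸ Subgroup.mem_zpowers y)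
  have h1 := hzero hx hx1 hy hy1 hyx nxy hA hB
  have h2 := hzero hy hy1 hx hx1 hxy' (fun h => nxy h.symm) hB hA
  have hsum : ∑ χ, ((A χ * B χ * (A χ + B χ) : ℤ) : ℚ) / (f χ : ℚ) = 0 := by
    rw [← add_zero (0 : ℚ)]
    conv_rhs => arg 1; rw [← h1]
    conv_rhs => arg 2; rw [← h2]
    rw [← Finset.sum_add_distrib]
    refine Finset.sum_congr rfl fun χ _ => ?_
    push_cast
    ring
  rw [hsum] at hbound
  norm_num at hbound

/-- The normaliser of order 36 gives order at most 720. -/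
theorem card_le_of_relIndex_four
    (h4 : c.S.relIndex (Subgroup.normalizer (c.S : Set G)) = 4) : Nat.card G ≤ 720 := by
  classical
  set N := Subgroup.normalizer (c.S : Set G) with hN
  haveI : (c.S.subgroupOf N).Normal := Subgroup.normal_in_normalizer
  have hcardQ : Nat.card (N ⧸ c.S.subgroupOf N) = 4 := h4
  -- an element whose square is outside `S`
  obtain ⟨n, hn, hn2⟩ : ∃ n ∈ N, n * n ∉ c.S := by
    by_contra hall
    push Not at hall
    obtain ⟨s, hs, hs1⟩ := (Subgroup.bot_or_exists_ne_one c.S).resolve_left fun e => by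
      have := c.card_eq
      rw [e, Subgroup.card_bot] at this
      omega
    obtain ⟨m, hm, hm1⟩ : ∃ m ∈ N, m ∉ c.S := SetLike.not_le_iff_exists.1 fun hle => by
      rw [Subgroup.relIndex_eq_one.2 hle] at h4
      omega
    have hcov : ∀ q : N ⧸ c.S.subgroupOf N, q = 1 ∨ q = QuotientGroup.mk ⟨m, hm⟩ := by
      intro q
      obtain ⟨⟨g, hg⟩, rfl⟩ := QuotientGroup.mk_surjective q
      by_cases hg1 : g ∈ c.S
      · exact Or.inl ((QuotientGroup.eq_one_iff _).2 hg1)
      · refine Or.inr (QuotientGroup.eq.2 (c.mem_of_commute hC hs hs1 ?_))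
        have e1 := c.inverts hC hm hm1 (hall m hm) hs
        have e2 := c.inverts hC hg hg1 (hall g hg) hs
        calc g⁻¹ * m * s = g⁻¹ * (m * s * m⁻¹) * m := by group
          _ = g⁻¹ * (g * s * g⁻¹) * m := by rw [e1, e2]
          _ = s * (g⁻¹ * m) := by group
    have hle := Nat.card_le_card_of_surjective
      (fun i : Fin 2 => if i = 0 then (1 : N ⧸ c.S.subgroupOf N) else QuotientGroup.mk ⟨m, hm⟩)
      (fun q => by rcases hcov q with rfl | rfl <;> [exact ⟨0, rfl⟩; exact ⟨1, rfl⟩])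
    rw [hcardQ, Nat.card_eq_fintype_card, Fintype.card_fin] at hle
    omega
  have hn1 : n ∉ c.S := fun h => hn2 (mul_mem h h)
  set q : N ⧸ c.S.subgroupOf N := QuotientGroup.mk ⟨n, hn⟩ with hq
  have hq4 : orderOf q = 4 := by
    refine orderOf_eq_prime_pow (p := 2) (n := 1) ?_ ?_
    · rw [pow_one, pow_two, hq, ← QuotientGroup.mk_mul]
      exact fun e => hn2 ((QuotientGroup.eq_one_iff ((⟨n, hn⟩ : N) * ⟨n, hn⟩)).1 e)
    · rw [show (2 : ℕ) ^ (1 + 1) = Nat.card (N ⧸ c.S.subgroupOf N) by rw [hcardQ]; norm_num]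
      exact pow_card_eq_one'
  have hm1 : n * n ∉ c.S := hn2
  have hm : n * n ∈ N := mul_mem hn hn
  have hm2 : n * n * (n * n) ∈ c.S := by
    have h := pow_card_eq_one' (x := q)
    rw [hcardQ, hq, ← QuotientGroup.mk_pow, QuotientGroup.eq_one_iff] at h
    have h' : n ^ 4 ∈ c.S := h
    rwa [show n ^ 4 = n * n * (n * n) by simp [pow_succ, mul_assoc]] at h'
  have hinv2 : ∀ {s : G}, s ∈ c.S → n * (n * s * n⁻¹) * n⁻¹ = s⁻¹ := fun {s} hs => by
    rw [← c.inverts hC hm hm1 hm2 hs]; group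
  have hreal : ∀ {s : G}, s ∈ c.S → IsConj s s⁻¹ := fun {s} hs =>
    c.real_of_inverts hC hm hm1 hm2 hs
  have hσ : ∀ {s : G}, s ∈ c.S → n * s * n⁻¹ ∈ c.S := fun {s} hs =>
    (Subgroup.mem_normalizer_iff.1 hn s).1 hs
  have hclass : ∀ {s t : G}, s ∈ c.S → s ≠ 1 → t ∈ c.S → IsConj s t →
      t = s ∨ t = n * s * n⁻¹ ∨ t = s⁻¹ ∨ t = (n * s * n⁻¹)⁻¹ := by
    intro s t hs hs1 ht hst
    obtain ⟨g, rfl⟩ := isConj_iff.1 hst
    have hg := c.mem_normalizer_of_conj hs hs1 ht
    have htop : Subgroup.zpowers q = ⊤ :=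
      Subgroup.eq_top_of_card_eq _ (by rw [Nat.card_zpowers, hq4, hcardQ])
    obtain ⟨i, hi⟩ := (mem_powers_iff_mem_zpowers (x := q)).2
      (show (QuotientGroup.mk (⟨g, hg⟩ : N) : N ⧸ c.S.subgroupOf N) ∈ Subgroup.zpowers q by
        rw [htop]; trivial)
    have hi' : q ^ i = QuotientGroup.mk (⟨g, hg⟩ : N) := hi
    rw [← pow_mod_orderOf, hq4, hq, ← QuotientGroup.mk_pow] at hi'
    have hmem' : ((⟨n, hn⟩ : N) ^ (i % 4))⁻¹ * ⟨g, hg⟩ ∈ c.S.subgroupOf N := QuotientGroup.eq.1 hi'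
    have hmem : (n ^ (i % 4))⁻¹ * g ∈ c.S := hmem'
    set r := (n ^ (i % 4))⁻¹ * g with hr
    have hg' : g * s * g⁻¹ = n ^ (i % 4) * s * (n ^ (i % 4))⁻¹ := by
      calc g * s * g⁻¹ = n ^ (i % 4) * (r * s * r⁻¹) * (n ^ (i % 4))⁻¹ := by rw [hr]; group
        _ = _ := by rw [c.comm r hmem s hs, mul_inv_cancel_right]
    rw [hg']
    have h4' : i % 4 < 4 := Nat.mod_lt _ (by norm_num)
    interval_cases i % 4
    · exact Or.inl (by simp)
    · exact Or.inr (Or.inl (by simp))
    · exact Or.inr (Or.inr (Or.inl (by rw [← hinv2 hs, pow_two]; group)))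
    · refine Or.inr (Or.inr (Or.inr ?_))
      rw [conj_inv, ← hinv2 hs]
      simp only [pow_succ, pow_zero, one_mul]
      group
  obtain ⟨x, hx, hx1⟩ := (Subgroup.bot_or_exists_ne_one c.S).resolve_left fun e => by
    have := c.card_eq
    rw [e, Subgroup.card_bot] at this
    omega
  set x' := n * x * n⁻¹ with hx'def
  have hx' : x' ∈ c.S := hσ hx
  have hσx' : n * x' * n⁻¹ = x⁻¹ := hinv2 hx
  have hx'1 : x' ≠ 1 := fun e => hx1 (conj_eq_one_iff.1 e)
  haveI : Fact (Nat.Prime 3) := ⟨Nat.prime_three⟩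
  have hxord : orderOf x = 3 := orderOf_eq_prime (c.pow_three hx) hx1
  have hne : x' ∉ Subgroup.zpowers x := by
    intro h
    obtain ⟨i, hi⟩ := (mem_powers_iff_mem_zpowers (x := x)).2 h
    have hi' : x ^ i = x' := hi
    have h2 : n * x' * n⁻¹ = x' ^ i := by
      conv_lhs => rw [← hi', ← conj_pow]
    rw [hσx', ← hi', ← pow_mul, ← pow_mod_orderOf, hxord] at h2
    have hsq : i * i % 3 = 0 ∨ i * i % 3 = 1 := by
      rw [Nat.mul_mod]
      have : i % 3 < 3 := Nat.mod_lt _ (by norm_num)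
      interval_cases i % 3 <;> omega
    rcases hsq with e | e <;> rw [e] at h2
    · exact hx1 (inv_eq_one.1 (h2.trans (pow_zero _)))
    · rw [pow_one] at h2
      have := orderOf_dvd_of_pow_eq_one (show x ^ 2 = 1 by
        rw [pow_two]; exact inv_eq_iff_mul_eq_one.1 h2)
      rw [hxord] at this
      norm_num at this
  -- coordinates
  let φ : Fin 3 × Fin 3 → G := fun p => x ^ (p.1 : ℕ) * x' ^ (p.2 : ℕ)
  have hφ : ∀ p, φ p ∈ c.S := fun p => mul_mem (pow_mem hx _) (pow_mem hx' _)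
  have hx'ord : orderOf x' = 3 := orderOf_eq_prime (c.pow_three hx') hx'1
  have hinj : Function.Injective φ := by
    intro p q' e
    by_cases h12 : p.2 = q'.2
    · simp only [φ, h12, mul_left_inj] at e
      refine Prod.ext (Fin.ext ?_) h12
      rw [pow_inj_mod, hxord, Nat.mod_eq_of_lt p.1.2, Nat.mod_eq_of_lt q'.1.2] at e
      exact e
    · exfalso
      have hk : x' ^ ((p.2 : ℕ) + 3 - (q'.2 : ℕ)) ∈ Subgroup.zpowers x := by
        have e2 : x' ^ (p.2 : ℕ) * (x' ^ (q'.2 : ℕ))⁻¹ = (x ^ (p.1 : ℕ))⁻¹ * x ^ (q'.1 : ℕ) := by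
          rw [eq_inv_mul_iff_mul_eq, ← mul_assoc, show x ^ (p.1 : ℕ) * x' ^ (p.2 : ℕ) =
            x ^ (q'.1 : ℕ) * x' ^ (q'.2 : ℕ) from e, mul_inv_cancel_right]
        rw [pow_sub x' (by omega), pow_add, c.pow_three hx', mul_one, e2]
        exact mul_mem (inv_mem (pow_mem (Subgroup.mem_zpowers x) _))
          (pow_mem (Subgroup.mem_zpowers x) _)
      refine hne ?_
      have hcop : ((p.2 : ℕ) + 3 - (q'.2 : ℕ)).Coprime (orderOf x') := by
        rw [hx'ord, Nat.coprime_comm, Nat.prime_three.coprime_iff_not_dvd]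
        intro hd
        exact h12 (Fin.ext (by omega))
      obtain ⟨k, hk'⟩ := exists_pow_eq_self_of_coprime hcop
      rw [← hk']
      exact pow_mem hk k
  have hbij : Function.Bijective fun p => (⟨φ p, hφ p⟩ : c.S) :=
    (Nat.bijective_iff_injective_and_card _).2 ⟨fun p q' e => hinj (congrArg Subtype.val e), by
      rw [Nat.card_prod, Nat.card_eq_fintype_card (α := Fin 3), c.card_eq, Fintype.card_fin]⟩
  have hxx : x * x = x⁻¹ := eq_inv_of_mul_eq_one_left (c.exp x hx)
  have hx'x' : x' * x' = x'⁻¹ := eq_inv_of_mul_eq_one_left (c.exp x' hx')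
  have f10 : φ (1, 0) = x := by simp [φ]
  have f01 : φ (0, 1) = x' := by simp [φ]
  have f20 : φ (2, 0) = x⁻¹ := by simp [φ, pow_two, hxx]
  have f02 : φ (0, 2) = x'⁻¹ := by simp [φ, pow_two, hx'x']
  have f11 : φ (1, 1) = x * x' := by simp [φ]
  have f21 : φ (2, 1) = n * (x * x') * n⁻¹ := by
    rw [← conj_mul, hσx']
    simp only [φ, Fin.val_one, Fin.val_two, pow_one, pow_two, hxx]
    rw [c.comm _ (inv_mem hx) x' hx']
  have f22 : φ (2, 2) = (x * x')⁻¹ := by
    simp only [φ, Fin.val_two, pow_two, hxx, hx'x', mul_inv_rev]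
    rw [c.comm _ (inv_mem hx) _ (inv_mem hx')]
  have f12 : φ (1, 2) = (n * (x * x') * n⁻¹)⁻¹ := by
    rw [← f21]
    simp only [φ, Fin.val_one, Fin.val_two, pow_one, pow_two, hxx, hx'x', mul_inv_rev, inv_inv]
    rw [c.comm x hx _ (inv_mem hx')]
  set b := x * x' with hbdef
  have hb : b ∈ c.S := mul_mem hx hx'
  have hb1 : b ≠ 1 := fun e => hne (by
    rw [eq_inv_of_mul_eq_one_right e]; exact inv_mem (Subgroup.mem_zpowers x))
  have hA : ∀ p, IsConj x (φ p) ↔ axisPoint p = true := by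
    intro p
    constructor
    · intro h
      have hp : p = (1, 0) ∨ p = (0, 1) ∨ p = (2, 0) ∨ p = (0, 2) := by
        rcases hclass hx hx1 (hφ p) h with e | e | e | e
        · exact Or.inl (hinj (e.trans f10.symm))
        · exact Or.inr (Or.inl (hinj (e.trans f01.symm)))
        · exact Or.inr (Or.inr (Or.inl (hinj (e.trans f20.symm))))
        · exact Or.inr (Or.inr (Or.inr (hinj (e.trans f02.symm))))
      rcases hp with rfl | rfl | rfl | rfl <;> rfl
    · intro h
      have hp : p = (1, 0) ∨ p = (0, 1) ∨ p = (2, 0) ∨ p = (0, 2) := by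
        revert p; decide
      have hc : IsConj x x' := isConj_iff.2 ⟨n, rfl⟩
      rcases hp with rfl | rfl | rfl | rfl
      · rw [f10]
      · rw [f01]; exact hc
      · rw [f20]; exact hreal hx
      · rw [f02]; exact hc.trans (hreal hx')
  have hB : ∀ p, IsConj b (φ p) ↔ crossPoint p = true := by
    intro p
    constructor
    · intro h
      have hp : p = (1, 1) ∨ p = (2, 1) ∨ p = (2, 2) ∨ p = (1, 2) := by
        rcases hclass hb hb1 (hφ p) h with e | e | e | e
        · exact Or.inl (hinj (e.trans f11.symm))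
        · exact Or.inr (Or.inl (hinj (e.trans f21.symm)))
        · exact Or.inr (Or.inr (Or.inl (hinj (e.trans f22.symm))))
        · exact Or.inr (Or.inr (Or.inr (hinj (e.trans f12.symm))))
      rcases hp with rfl | rfl | rfl | rfl <;> rfl
    · intro h
      have hp : p = (1, 1) ∨ p = (2, 1) ∨ p = (2, 2) ∨ p = (1, 2) := by
        revert p; decide
      have hc : IsConj b (n * b * n⁻¹) := isConj_iff.2 ⟨n, rfl⟩
      rcases hp with rfl | rfl | rfl | rfl
      · rw [f11]
      · rw [f21]; exact hc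
      · rw [f22]; exact hreal hb
      · rw [f12]; exact hc.trans (hreal (hσ hb))
  have nxb : ¬ IsConj x b := by
    rw [← f11, hA]
    decide
  -- the counts
  have hinv' : ∀ p, (φ p)⁻¹ * x = φ (1 - p.1, -p.2) := by
    intro p
    simp only [φ, mul_inv_rev]
    rw [mul_assoc, fin_pow_sub (c.exp x hx), fin_pow_inv (c.exp x' hx'),
      c.comm _ (pow_mem hx' _) _ (pow_mem hx _)]
  have hcount : ∀ (u v : G) (P Q : Fin 3 × Fin 3 → Bool), (∀ p, IsConj u (φ p) ↔ P p = true) →
      (∀ p, IsConj v (φ p) ↔ Q p = true) →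
      Nat.card {w : c.S // IsConj u (w : G) ∧ IsConj v ((w : G)⁻¹ * x)} =
        Fintype.card {p : Fin 3 × Fin 3 // P p = true ∧ Q (1 - p.1, -p.2) = true} := by
    intro u v P Q hP hQ
    rw [← Nat.card_eq_fintype_card]
    refine (Nat.card_congr ((Equiv.ofBijective _ hbij).subtypeEquiv fun p => ?_)).symm
    show _ ↔ IsConj u (φ p) ∧ IsConj v ((φ p)⁻¹ * x)
    rw [hP, hinv', hQ]
  have n1 : Nat.card {w : c.S // IsConj x (w : G) ∧ IsConj b ((w : G)⁻¹ * x)} = 2 := by
    rw [hcount x b axisPoint crossPoint hA hB]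
    rfl
  have n2 : Nat.card {w : c.S // IsConj b (w : G) ∧ IsConj b ((w : G)⁻¹ * x)} = 2 := by
    rw [hcount b b crossPoint crossPoint hB hB]
    rfl
  -- the values
  choose f hf0 hf using fun χ : Cfsg.IrrCharacter G => Characters.exists_degree_pos χ.2
  choose A hAv hA3 using fun χ : Cfsg.IrrCharacter G =>
    exists_value (c.exp x hx) hx1 (hreal hx) χ (hf χ)
  choose B hBv hB3 using fun χ : Cfsg.IrrCharacter G =>
    exists_value (c.exp b hb) hb1 (hreal hb) χ (hf χ)
  set i₀ := trivChar G with hi₀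
  have hone : ∀ {g : G} {V : Cfsg.IrrCharacter G → ℤ}, (∀ χ, (χ.1 : G → ℂ) g = V χ) → V i₀ = 1 := by
    intro g V hV
    have h := (hV i₀).symm.trans (trivChar_apply g)
    exact_mod_cast h
  have hf01 : f i₀ = 1 := by
    have h := (hf i₀).symm.trans (trivChar_apply (1 : G))
    exact_mod_cast h
  have hS : ∀ χ, (9 : ℤ) ∣ (f χ : ℤ) + 4 * A χ + 4 * B χ := by
    intro χ
    haveI : Fintype c.S := Fintype.ofFinite _
    obtain ⟨m, hm⟩ := exists_sum_eq χ c.S
    have hval : ∀ p, (χ : G → ℂ) (φ p) =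
        if axisPoint p then (A χ : ℂ) else if crossPoint p then (B χ : ℂ) else (f χ : ℂ) := by
      intro p
      have hcl := Characters.isClassFunction_of_isIrr χ.2
      split_ifs with h1 h2
      · rw [← Characters.classFunction_isConj hcl ((hA p).2 h1), hAv]
      · rw [← Characters.classFunction_isConj hcl ((hB p).2 h2), hBv]
      · have hp : p = (0, 0) := by
          revert p; decide
        subst hp
        simp [φ, hf]
    rw [← hbij.sum_comp (fun h : c.S => (χ : G → ℂ) h), c.card_eq] at hm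
    simp only [hval, Fintype.sum_prod_type, Fin.sum_univ_three] at hm
    simp [axisPoint, crossPoint] at hm
    refine ⟨m, ?_⟩
    have h' : (((f χ : ℤ) + 4 * A χ + 4 * B χ : ℤ) : ℂ) = ((9 * m : ℤ) : ℂ) := by
      push_cast
      linear_combination hm
    exact_mod_cast h'
  have hbound := triple_bound A B f hf0 (sum_value_sq hAv (c.card_centralizer hC hx hx1))
    (sum_value_sq hBv (c.card_centralizer hC hb hb1)) (sum_value_mul nxb hAv hBv)
    (fun χ => by have h1 := hA3 χ; have h2 := hB3 χ; omega) (hone hAv) (hone hBv) hf01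
    (fun χ _ ea eb => by
      have h := hS χ
      have := hf0 χ
      rw [ea, eb] at h
      omega)
    (fun χ _ hs => by
      have h := hS χ
      have := hf0 χ
      omega)
  have hnot : ¬ (IsConj x⁻¹ x ∧ IsConj x⁻¹ b) := fun h => nxb ((hreal hx).trans h.2)
  have hnot' : ¬ (IsConj x⁻¹ b ∧ IsConj x⁻¹ b) := fun h => nxb ((hreal hx).trans h.2)
  have q1 := c.triple_eq hC hx hx1 hb hb1 hx hx1 hnot hAv hBv hAv hf
  have q2 := c.triple_eq hC hb hb1 hb hb1 hx hx1 hnot' hBv hBv hAv hf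
  rw [n1] at q1
  rw [n2] at q2
  have hT : ∑ χ, ((A χ * B χ * (A χ + B χ) : ℤ) : ℚ) / (f χ : ℚ) =
      ∑ χ, ((A χ * (A χ * B χ) : ℤ) : ℚ) / (f χ : ℚ) +
        ∑ χ, ((A χ * (B χ * B χ) : ℤ) : ℚ) / (f χ : ℚ) := by
    rw [← Finset.sum_add_distrib]
    refine Finset.sum_congr rfl fun χ _ => ?_
    push_cast
    ring
  rw [hT] at hbound
  have hg : (0 : ℚ) ≤ Nat.card G := Nat.cast_nonneg _
  have hle : (Nat.card G : ℚ) ≤ 720 := by
    have h3 := mul_le_mul_of_nonneg_left hbound hg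
    rw [mul_add, ← q1, ← q2] at h3
    push_cast at h3
    linarith
  exact_mod_cast hle

/-- A simple group with such a Sylow subgroup and two classes of elements of order three. -/
theorem card_eq_360 [IsSimpleGroup G] (hG : ¬ IsMulCommutative G) {a b : G} (ha : a ∈ c.S)
    (ha1 : a ≠ 1) (hb : b ∈ c.S) (hb1 : b ≠ 1) (hab : ¬ IsConj a b) : Nat.card G = 360 := by
  classical
  have h4 := (c.index_cases hC hG ha ha1 hb hb1 hab).resolve_left (c.relIndex_ne_two hC hG)
  have h720 := c.card_le_of_relIndex_four hC h4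
  have h9 : 9 ∣ Nat.card G := c.card_eq ▸ Subgroup.card_subgroup_dvd_card _
  rcases Cfsg.Agent.S0496.result hG (by omega) with h | h | h | h | h | h <;> try omega
  exfalso
  -- 14 is not a number of Sylow 3-subgroups
  haveI : Fact (Nat.Prime 3) := ⟨Nat.prime_three⟩
  have hfac : (Nat.card G).factorization 3 = 2 := by
    rw [h, show (504 : ℕ) = 3 ^ 2 * 56 from rfl, Nat.factorization_mul (by norm_num) (by norm_num),
      Finsupp.add_apply, Nat.factorization_pow,
      Nat.factorization_eq_zero_of_not_dvd (show ¬ 3 ∣ 56 by norm_num)]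
    simp [Nat.Prime.factorization_self Nat.prime_three]
  let P : Sylow 3 G := Sylow.ofCard c.S (by rw [c.card_eq, hfac]; norm_num)
  have hmod := card_sylow_modEq_one 3 G
  rw [Sylow.card_eq_index_normalizer P] at hmod
  have hNc := Subgroup.relIndex_mul_relIndex ⊥ c.S (Subgroup.normalizer (c.S : Set G)) bot_le
    Subgroup.le_normalizer
  rw [Subgroup.relIndex_bot_left, Subgroup.relIndex_bot_left, h4, c.card_eq] at hNc
  have hidx := Subgroup.card_mul_index (Subgroup.normalizer (c.S : Set G))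
  rw [← hNc, h] at hidx
  have h14 : (Subgroup.normalizer (c.S : Set G)).index = 14 := by omega
  change (Subgroup.normalizer (c.S : Set G)).index ≡ 1 [MOD 3] at hmod
  rw [h14] at hmod
  exact absurd hmod (by decide)

end Setup

end CfsgLib.SylowThreeNine
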