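import Cfsg.Agent.SylowThreeNine.Basic
import Cfsg.Agent.ClassPairs.Basic
import Cfsg.Agent.Characters.Generalized
import Cfsg.Agent.Characters.Linear
import Cfsg.Agent.PRational.Basic

/-!
# Character values and class multiplication at the elements of the Sylow subgroup of order nine
-/

set_option autoImplicit false
set_option linter.style.haveILetI false

namespace CfsgLib.SylowThreeNine

open CfsgLib.Characters
open scoped ComplexConjugate

universe u

variable {G : Type u} [Group G] [Fintype G]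

/-- Factorisations of `x` by conjugates of `u` and `v`. -/
theorem pairs_eq (u v x : G) :
    (Nat.card (Subgroup.centralizer ({u} : Set G)) : ℂ) *
      (Nat.card (Subgroup.centralizer ({v} : Set G)) : ℂ) *
      (Nat.card {w : G // IsConj u w ∧ IsConj v (w⁻¹ * x)} : ℂ) =
    (Nat.card G : ℂ) * ∑ χ : Cfsg.IrrCharacter G,
      conj ((χ : G → ℂ) x) * ((χ : G → ℂ) u * (χ : G → ℂ) v / (χ : G → ℂ) 1) := by
  classical
  have h := ClassPairs.card_pairs u v ({x} : Finset G)
  simp only [Finset.sum_singleton] at h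
  rw [← h]
  let A := {q : G × G // q.1 * u * q.1⁻¹ * (q.2 * v * q.2⁻¹) ∈ ({x} : Finset G)}
  have hA : (∑ a : G, ∑ b : G, if a * u * a⁻¹ * (b * v * b⁻¹) ∈ ({x} : Finset G) then (1 : ℂ) else 0)
      = (Nat.card A : ℂ) := by
    rw [← Fintype.sum_prod_type', Finset.sum_boole, Nat.card_eq_fintype_card, Fintype.card_subtype]
  rw [hA]
  let π : A → {w : G // IsConj u w ∧ IsConj v (w⁻¹ * x)} := fun q =>
    ⟨q.1.1 * u * q.1.1⁻¹, isConj_iff.2 ⟨_, rfl⟩, isConj_iff.2 ⟨q.1.2, by
      exact eq_inv_mul_iff_mul_eq.2 (Finset.mem_singleton.1 q.2)⟩⟩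
  have hfib : ∀ w, Nat.card {q // π q = w} = Nat.card (Subgroup.centralizer ({u} : Set G)) *
      Nat.card (Subgroup.centralizer ({v} : Set G)) := by
    rintro ⟨w, hw1, hw2⟩
    obtain ⟨a, ha⟩ := isConj_iff.1 hw1
    obtain ⟨b, hb⟩ := isConj_iff.1 hw2
    rw [← Nat.card_prod]
    refine Nat.card_congr
      { toFun := fun q => (⟨a⁻¹ * q.1.1.1, ?_⟩, ⟨b⁻¹ * q.1.1.2, ?_⟩)
        invFun := fun p => ⟨⟨(a * (p.1 : G), b * (p.2 : G)), ?_⟩, Subtype.ext ?_⟩
        left_inv := fun q => Subtype.ext (Subtype.ext (Prod.ext (mul_inv_cancel_left _ _)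
          (mul_inv_cancel_left _ _)))
        right_inv := fun p => Prod.ext (Subtype.ext (inv_mul_cancel_left _ _))
          (Subtype.ext (inv_mul_cancel_left _ _)) }
    · have h1 : q.1.1.1 * u * q.1.1.1⁻¹ = a * u * a⁻¹ := (congrArg Subtype.val q.2).trans ha.symm
      refine Subgroup.mem_centralizer_singleton_iff.2 ?_
      calc a⁻¹ * q.1.1.1 * u = a⁻¹ * (q.1.1.1 * u * q.1.1.1⁻¹) * q.1.1.1 := by group
        _ = u * (a⁻¹ * q.1.1.1) := by rw [h1]; group
    · have h0 : q.1.1.1 * u * q.1.1.1⁻¹ = w := congrArg Subtype.val q.2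
      have h2 := Finset.mem_singleton.1 q.1.2
      rw [h0, ← eq_inv_mul_iff_mul_eq] at h2
      have h1 : q.1.1.2 * v * q.1.1.2⁻¹ = b * v * b⁻¹ := h2.trans hb.symm
      refine Subgroup.mem_centralizer_singleton_iff.2 ?_
      calc b⁻¹ * q.1.1.2 * v = b⁻¹ * (q.1.1.2 * v * q.1.1.2⁻¹) * q.1.1.2 := by group
        _ = v * (b⁻¹ * q.1.1.2) := by rw [h1]; group
    · refine Finset.mem_singleton.2 ?_
      have e1 := Subgroup.mem_centralizer_singleton_iff.1 p.1.2
      have e2 := Subgroup.mem_centralizer_singleton_iff.1 p.2.2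
      calc a * (p.1 : G) * u * (a * (p.1 : G))⁻¹ * (b * (p.2 : G) * v * (b * (p.2 : G))⁻¹)
          = a * ((p.1 : G) * u) * (p.1 : G)⁻¹ * a⁻¹ * (b * ((p.2 : G) * v) * (p.2 : G)⁻¹ * b⁻¹) := by
            group
        _ = a * u * a⁻¹ * (b * v * b⁻¹) := by rw [e1, e2]; group
        _ = x := by rw [ha, hb, mul_inv_cancel_left]
    · have e1 := Subgroup.mem_centralizer_singleton_iff.1 p.1.2
      show a * (p.1 : G) * u * (a * (p.1 : G))⁻¹ = w
      calc a * (p.1 : G) * u * (a * (p.1 : G))⁻¹ = a * ((p.1 : G) * u) * (p.1 : G)⁻¹ * a⁻¹ := by group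
        _ = a * u * a⁻¹ := by rw [e1]; group
        _ = w := ha
  rw [← Nat.card_congr (Equiv.sigmaFiberEquiv π), Nat.card_sigma,
    Finset.sum_congr rfl fun w _ => hfib w, Finset.sum_const, Finset.card_univ, smul_eq_mul,
    ← Nat.card_eq_fintype_card]
  push_cast
  ring

/-- The values over a subgroup add up to a multiple of its order. -/
theorem exists_sum_eq (χ : Cfsg.IrrCharacter G) (H : Subgroup G) [Fintype H] :
    ∃ m : ℤ, ∑ h : H, (χ : G → ℂ) h = (Nat.card H : ℂ) * m := by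
  obtain ⟨z, hz⟩ := classInner_gen (isGen_restrict H (isGen_of_isIrr χ.2)) (isGen_one (G := H))
  refine ⟨z, ?_⟩
  rw [← hz, Cfsg.classInner, ← mul_assoc,
    mul_inv_cancel₀ (Nat.cast_ne_zero.2 (Nat.card_pos (α := H)).ne'), one_mul]
  simp

/-- An element of order three conjugate to its inverse takes integral values. -/
theorem exists_value {x : G} (hx : x * x * x = 1) (hx1 : x ≠ 1) (hinv : IsConj x x⁻¹)
    (χ : Cfsg.IrrCharacter G) {f : ℕ} (hf : (χ : G → ℂ) 1 = f) :
    ∃ a : ℤ, (χ : G → ℂ) x = a ∧ (3 : ℤ) ∣ (f : ℤ) - a := by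
  classical
  haveI : Fintype (Subgroup.zpowers x) := Fintype.ofFinite _
  obtain ⟨m, hm⟩ := exists_sum_eq χ (Subgroup.zpowers x)
  haveI : Fact (Nat.Prime 3) := ⟨Nat.prime_three⟩
  have hord : orderOf x = 3 := orderOf_eq_prime (by rw [pow_succ, pow_two]; exact hx) hx1
  rw [Nat.card_zpowers, hord] at hm
  have hs : ∑ h : Subgroup.zpowers x, (χ : G → ℂ) h =
      (χ : G → ℂ) 1 + ((χ : G → ℂ) x + (χ : G → ℂ) (x ^ 2)) := by
    rw [show (∑ h : Subgroup.zpowers x, (χ : G → ℂ) h) =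
      ∑ i : Fin (orderOf x), (χ : G → ℂ) (x ^ (i : ℕ)) from
      (Fintype.sum_equiv (finEquivZPowers (isOfFinOrder_of_finite x)) _ _ fun i => rfl).symm,
      Fin.sum_univ_eq_sum_range (fun i => (χ : G → ℂ) (x ^ i)), hord]
    simp only [Finset.sum_range_succ, Finset.sum_range_zero, zero_add, pow_zero, pow_one]
    ring
  have hx2 : x ^ 2 = x⁻¹ := by rw [pow_two]; exact eq_inv_of_mul_eq_one_left hx
  rw [hs, hx2, ← classFunction_isConj (isClassFunction_of_isIrr χ.2) hinv, hf] at hm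
  push_cast at hm
  obtain ⟨a, ha⟩ := PRational.exists_int_of_isIntegral_of_mul
    (character_isIntegral (isCharacter_of_isIrr χ.2) x) (a := 3 * m - f) (b := 2) two_ne_zero
    (by push_cast; linear_combination hm)
  refine ⟨a, ha, ?_⟩
  rw [ha] at hm
  have h' : (((f : ℤ) + (a + a) : ℤ) : ℂ) = ((3 * m : ℤ) : ℂ) := by push_cast; linear_combination hm
  have h : (f : ℤ) + (a + a) = 3 * m := by exact_mod_cast h'
  omega

/-- Integral values at `x`: the column norm. -/
theorem sum_value_sq {x : G} {a : Cfsg.IrrCharacter G → ℤ} (ha : ∀ χ, (χ.1 : G → ℂ) x = a χ)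
    {n : ℕ} (hn : Nat.card (Subgroup.centralizer ({x} : Set G)) = n) :
    ∑ χ, a χ * a χ = (n : ℤ) := by
  have h := sum_irr_mul_conj_of_isConj (IsConj.refl x)
  simp only [ha, map_intCast, hn] at h
  exact_mod_cast h

/-- Integral values at two classes: orthogonality of the columns. -/
theorem sum_value_mul {x y : G} (hxy : ¬ IsConj x y) {a b : Cfsg.IrrCharacter G → ℤ}
    (ha : ∀ χ, (χ.1 : G → ℂ) x = a χ) (hb : ∀ χ, (χ.1 : G → ℂ) y = b χ) :
    ∑ χ, a χ * b χ = 0 := by
  have h := sum_irr_mul_conj_of_not_isConj hxy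
  simp only [ha, hb, map_intCast] at h
  exact_mod_cast h

namespace Setup

variable (c : Setup G)

/-- Unless both factors may be conjugate to `x⁻¹`, the factorisations lie in `S`. -/
theorem card_factors {u v x : G} (hx : x ∈ c.S) (hx1 : x ≠ 1) (hu : u * u * u = 1)
    (hv : v * v * v = 1) (hnot : ¬ (IsConj x⁻¹ u ∧ IsConj x⁻¹ v)) :
    Nat.card {w : G // IsConj u w ∧ IsConj v (w⁻¹ * x)} =
      Nat.card {w : c.S // IsConj u (w : G) ∧ IsConj v ((w : G)⁻¹ * x)} := by
  have hmem : ∀ w : G, IsConj u w → IsConj v (w⁻¹ * x) → w ∈ c.S := by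
    intro w h1 h2
    have cube : ∀ {p q : G}, p * p * p = 1 → IsConj p q → q ^ 3 = 1 := by
      intro p q hp hpq
      obtain ⟨g, rfl⟩ := isConj_iff.1 hpq
      rw [conj_pow, show p ^ 3 = 1 by rw [pow_succ, pow_two, hp], mul_one, mul_inv_cancel]
    rcases c.mem_or_isConj hx hx1 (cube hu h1) (cube hv h2) with h | ⟨h, h'⟩
    · exact h
    · exact absurd ⟨h.trans h1.symm, h'.trans h2.symm⟩ hnot
  exact Nat.card_congr
    { toFun := fun w => ⟨⟨w.1, hmem w.1 w.2.1 w.2.2⟩, w.2⟩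
      invFun := fun w => ⟨w.1.1, w.2⟩
      left_inv := fun _ => rfl
      right_inv := fun _ => rfl }

end Setup

end CfsgLib.SylowThreeNine
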