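import Cfsg.Agent.SylowThreeNine.Basic

/-!
# Restriction to a subgroup containing the Sylow subgroup
-/

set_option autoImplicit false
set_option linter.style.haveILetI false
set_option linter.unusedSectionVars false

namespace CfsgLib.SylowThreeNine.Setup

universe u

variable {G : Type u} [Group G] [Finite G] (c : Setup G)

/-- The same subgroup inside a subgroup containing it. -/
def restrict (K : Subgroup G) (hK : c.S ≤ K) : Setup K where
  S := c.S.subgroupOf K
  card_eq := by rw [Nat.card_congr (Subgroup.subgroupOfEquivOfLe hK).toEquiv, c.card_eq]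
  exp a ha := Subtype.ext (c.exp a ha)
  comm a ha b hb := Subtype.ext (c.comm a ha b hb)
  not_dvd h := c.not_dvd (h.trans (Subgroup.card_subgroup_dvd_card K))
  cent s hs hs1 g hg := by
    rw [← Subgroup.subgroupOf_normalizer_eq hK, Subgroup.mem_subgroupOf]
    refine c.cent s hs (fun e => hs1 (Subtype.ext e)) (Subgroup.mem_centralizer_singleton_iff.2 ?_)
    exact congrArg Subtype.val (Subgroup.mem_centralizer_singleton_iff.1 hg)

theorem restrict_S (K : Subgroup G) (hK : c.S ≤ K) : (c.restrict K hK).S = c.S.subgroupOf K := rfl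

theorem restrict_normalizer (K : Subgroup G) (hK : c.S ≤ K) :
    Subgroup.normalizer ((c.restrict K hK).S : Set K) =
      (Subgroup.normalizer (c.S : Set G)).subgroupOf K :=
  (Subgroup.subgroupOf_normalizer_eq hK).symm

/-- A normal subgroup normalising `S` makes `S` normal. -/
theorem normalizer_eq_top_of_le {K : Subgroup G} [K.Normal] (hK : c.S ≤ K)
    (h : K ≤ Subgroup.normalizer (c.S : Set G)) : Subgroup.normalizer (c.S : Set G) = ⊤ := by
  refine eq_top_iff.2 fun g _ => ?_
  have key : ∀ (g : G), ∀ a ∈ c.S, g * a * g⁻¹ ∈ c.S := fun g a ha =>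
    c.mem_of_normalizes (by rw [conj_pow, c.pow_three ha, mul_one, mul_inv_cancel])
      (h (Subgroup.Normal.conj_mem inferInstance a (hK ha) g))
  refine Subgroup.mem_normalizer_iff.2 fun a => ⟨key g a, fun ha => ?_⟩
  have := key g⁻¹ _ ha
  rwa [show g⁻¹ * (g * a * g⁻¹) * g⁻¹⁻¹ = a by group] at this

/-- An element of order three is conjugate into `S`. -/
theorem exists_conj_mem {y : G} (hy : y ^ 3 = 1) : ∃ g : G, g * y * g⁻¹ ∈ c.S := by
  haveI : Fact (Nat.Prime 3) := ⟨Nat.prime_three⟩
  have hfac : (Nat.card G).factorization 3 = 2 := by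
    have h2 : 2 ≤ (Nat.card G).factorization 3 :=
      (Nat.prime_three.pow_dvd_iff_le_factorization Nat.card_pos.ne').1
        (by rw [show (3 : ℕ) ^ 2 = Nat.card c.S by rw [c.card_eq]; norm_num]
            exact Subgroup.card_subgroup_dvd_card _)
    by_contra h3
    exact c.not_dvd ((pow_dvd_pow 3 (show 3 ≤ _ by omega)).trans (Nat.ordProj_dvd _ 3))
  let P : Sylow 3 G := Sylow.ofCard c.S (by rw [c.card_eq, hfac]; norm_num)
  have hp : IsPGroup 3 (Subgroup.zpowers y) := by
    obtain ⟨i, -, hi⟩ := (Nat.dvd_prime_pow Nat.prime_three).1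
      (show orderOf y ∣ 3 ^ 1 by rw [pow_one]; exact orderOf_dvd_of_pow_eq_one hy)
    exact IsPGroup.of_card (n := i) (by rw [Nat.card_zpowers, hi])
  obtain ⟨Q, hQ⟩ := hp.exists_le_sylow
  obtain ⟨g, hg⟩ := MulAction.exists_smul_eq G Q P
  refine ⟨g, ?_⟩
  show g * y * g⁻¹ ∈ (P : Subgroup G)
  rw [← hg, Sylow.coe_subgroup_smul]
  exact ⟨y, hQ (Subgroup.mem_zpowers y), rfl⟩

end CfsgLib.SylowThreeNine.Setup
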