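import Cfsg.Agent.SylowThreeNine.AltSix
import Cfsg.Agent.SylowThreeNine.Index
import Cfsg.Agent.SylowThreeNine.Restrict
import Cfsg.Agent.Small.ElementCount
import Mathlib.RingTheory.ZMod.UnitsCyclic

/-!
# A self-centralising Sylow subgroup of order nine with automizer of order four

Either it is normal, or the group is simple of order 360.
-/

set_option autoImplicit false
set_option linter.style.haveILetI false
set_option linter.unusedSectionVars false

namespace CfsgLib.SylowThreeNine.Setup

universe u

variable {G : Type u} [Group G] [Finite G] (c : Setup G)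

/-- A free action of the Sylow subgroup by conjugation on a normalised set. -/
theorem nine_dvd_card_subgroup (hC : ∀ s ∈ c.S, s ≠ 1 → Subgroup.centralizer ({s} : Set G) = c.S)
    {H : Subgroup G} [H.Normal] (hHS : ∀ s ∈ c.S, s ∈ H → s = 1) : 9 ∣ Nat.card H - 1 := by
  classical
  let X := {h : H // h ≠ 1}
  let _ : MulAction c.S X :=
    { smul := fun a h => ⟨⟨(a : G) * h.1 * (a : G)⁻¹,
        Subgroup.Normal.conj_mem inferInstance _ h.1.2 _⟩, fun e => h.2 (Subtype.ext
          (conj_eq_one_iff.1 (congrArg Subtype.val e)))⟩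
      one_smul := fun h => Subtype.ext (Subtype.ext (by
        show (1 : G) * h.1 * (1 : G)⁻¹ = h.1
        group))
      mul_smul := fun a b h => Subtype.ext (Subtype.ext (by
        show (a : G) * b * h.1 * ((a : G) * b)⁻¹ = (a : G) * ((b : G) * h.1 * (b : G)⁻¹) * (a : G)⁻¹
        group)) }
  have hfree : ∀ h : X, MulAction.stabilizer c.S h = ⊥ := fun h => by
    rw [Subgroup.eq_bot_iff_forall]
    intro a ha
    by_contra ha1
    have e : (a : G) * h.1 * (a : G)⁻¹ = h.1 :=
      congrArg (fun z : X => ((z.1 : H) : G)) ha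
    have hmem : (h.1 : G) ∈ c.S := by
      rw [← hC a a.2 fun e => ha1 (Subtype.ext e)]
      exact Subgroup.mem_centralizer_singleton_iff.2 (mul_inv_eq_iff_eq_mul.1 e).symm
    exact h.2 (Subtype.ext (hHS _ hmem h.1.2))
  have hX : 9 ∣ Nat.card X := by
    rw [Nat.card_congr (MulAction.selfEquivSigmaOrbits c.S X)]
    haveI : Finite (MulAction.orbitRel.Quotient c.S X) := Quotient.finite _
    haveI := Fintype.ofFinite (MulAction.orbitRel.Quotient c.S X)
    rw [Nat.card_sigma]
    refine Finset.dvd_sum fun ω _ => ?_
    rw [Nat.card_congr (MulAction.orbitEquivQuotientStabilizer c.S ω.out)]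
    show 9 ∣ (MulAction.stabilizer c.S ω.out).index
    rw [hfree, Subgroup.index_bot, c.card_eq]
  haveI := Fintype.ofFinite H
  rwa [Nat.card_eq_fintype_card, Fintype.card_subtype_compl, Fintype.card_subtype_eq,
    ← Nat.card_eq_fintype_card] at hX

variable (hC : ∀ s ∈ c.S, s ≠ 1 → Subgroup.centralizer ({s} : Set G) = c.S)

include hC

/-- No prime other than three divides the order of a centraliser of an element of order three. -/
theorem not_commute_of_order {p : ℕ} (hp : p.Prime) (h3 : p ≠ 3) {a u : G} (ha : a ^ 3 = 1)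
    (ha1 : a ≠ 1) (hu : orderOf u = p) : a * u ≠ u * a := by
  intro hau
  obtain ⟨g, hg⟩ := c.exists_conj_mem ha
  have hmem : g * u * g⁻¹ ∈ c.S := by
    rw [← hC _ hg fun e => ha1 (conj_eq_one_iff.1 e), Subgroup.mem_centralizer_singleton_iff,
      conj_mul, conj_mul, hau]
  have h := orderOf_dvd_of_pow_eq_one (c.pow_three hmem)
  rw [Small.orderOf_conj_eq, hu] at h
  exact h3 ((Nat.prime_dvd_prime_iff_eq hp Nat.prime_three).1 h)

/-- There is no normal subgroup of prime order other than three. -/
theorem not_normal_prime {p : ℕ} (hp : p.Prime) (h3 : p ≠ 3) (P : Subgroup G) [P.Normal]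
    (hP : Nat.card P = p) : False := by
  haveI := Fact.mk hp
  haveI : IsCyclic P := isCyclic_of_prime_card hP
  haveI : IsCyclic (MulAut P) := by
    haveI := ZMod.isCyclic_units_prime (p := Nat.card P) (hP ▸ hp)
    exact isCyclic_of_injective (IsCyclic.mulAutMulEquiv P).toMonoidHom
      (IsCyclic.mulAutMulEquiv P).injective
  obtain ⟨u, hu⟩ := exists_prime_orderOf_dvd_card' p (dvd_of_eq hP.symm)
  let φ : c.S →* MulAut P := (MulAut.conjNormal : G →* MulAut P).comp c.S.subtype
  have hφ : Function.Injective φ := by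
    rw [injective_iff_map_eq_one]
    intro a ha
    by_contra ha1
    have e : (a : G) * u * (a : G)⁻¹ = u := by
      have h := congrArg Subtype.val (DFunLike.congr_fun ha u)
      rwa [show φ a = MulAut.conjNormal (a : G) from rfl, MulAut.conjNormal_apply] at h
    exact c.not_commute_of_order hC hp h3 (c.pow_three a.2) (fun e => ha1 (Subtype.ext e))
      (by rw [Subgroup.orderOf_coe, hu]) (mul_inv_eq_iff_eq_mul.1 e)
  haveI := isCyclic_of_injective φ hφ
  obtain ⟨g, hg⟩ := IsCyclic.exists_ofOrder_eq_natCard (α := c.S)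
  have h := orderOf_dvd_of_pow_eq_one (c.pow_three g.2)
  rw [Subgroup.orderOf_coe, hg, c.card_eq] at h
  norm_num at h

/-- The automizer of order four: normal or simple of order 360. -/
theorem normal_or_simple (h4 : c.S.relIndex (Subgroup.normalizer (c.S : Set G)) = 4) :
    Subgroup.normalizer (c.S : Set G) = ⊤ ∨ (Nat.card G = 360 ∧ IsSimpleGroup G) := by
  classical
  haveI : Fact (Nat.Prime 3) := ⟨Nat.prime_three⟩
  haveI : Fact (Nat.Prime 5) := ⟨Nat.prime_five⟩
  haveI := Fintype.ofFinite G
  have h720 := c.card_le_of_relIndex_four hC h4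
  set N := Subgroup.normalizer (c.S : Set G) with hN
  haveI : (c.S.subgroupOf N).Normal := Subgroup.normal_in_normalizer
  have hcN := Subgroup.relIndex_mul_relIndex ⊥ c.S N bot_le Subgroup.le_normalizer
  rw [Subgroup.relIndex_bot_left, Subgroup.relIndex_bot_left, h4, c.card_eq] at hcN
  have hidx := Subgroup.card_mul_index N
  rw [← hcN] at hidx
  have hmod := c.index_normalizer_mod_nine
  rw [← hN] at hmod
  rcases (show N.index = 1 ∨ N.index = 10 ∨ N.index = 19 by omega) with h | h | h
  · exact Or.inl (Subgroup.index_eq_one.1 h)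
  swap
  · exfalso
    haveI : Fact (Nat.Prime 19) := ⟨by norm_num⟩
    obtain ⟨P⟩ : Nonempty (Sylow 19 G) := inferInstance
    have hcard : Nat.card G = 19 ^ 1 * 36 := by rw [← hidx, h]; norm_num
    have hP : Nat.card P = 19 := by rw [Small.card_sylow_eq hcard (by norm_num), pow_one]
    have hdvd := Small.card_sylow_dvd (G := G) hcard (by norm_num)
    have h19 := card_sylow_modEq_one 19 G
    have hone : Nat.card (Sylow 19 G) = 1 := by
      have hlt : Nat.card (Sylow 19 G) ≤ 36 := Nat.le_of_dvd (by norm_num) hdvd
      rcases (show Nat.card (Sylow 19 G) = 1 ∨ Nat.card (Sylow 19 G) = 20 by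
        rw [Nat.ModEq] at h19; omega) with e | e
      · exact e
      · rw [e] at hdvd; norm_num at hdvd
    haveI : Subsingleton (Sylow 19 G) := (Nat.card_eq_one_iff_unique.1 hone).1
    haveI := Sylow.normal_of_subsingleton P
    exact c.not_normal_prime hC (by norm_num) (by norm_num) (P : Subgroup G) hP
  have hcard : Nat.card G = 360 := by omega
  refine Or.inr ⟨hcard, ?_⟩
  -- an element moving every line of `S`
  obtain ⟨n, hn, hn2⟩ : ∃ n ∈ N, n * n ∉ c.S := by
    by_contra hall
    push Not at hall
    obtain ⟨s, hs, hs1⟩ := (Subgroup.bot_or_exists_ne_one c.S).resolve_left fun e => by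
      have := c.card_eq
      rw [e, Subgroup.card_bot] at this
      omega
    obtain ⟨m, hm, hm1⟩ : ∃ m ∈ N, m ∉ c.S := SetLike.not_le_iff_exists.1 fun hle => by
      rw [Subgroup.relIndex_eq_one.2 hle] at h4
      omega
    have hle := Nat.card_le_card_of_surjective
      (fun i : Fin 2 => if i = 0 then (1 : N ⧸ c.S.subgroupOf N) else QuotientGroup.mk ⟨m, hm⟩)
      (fun q => by
        obtain ⟨⟨g, hg⟩, rfl⟩ := QuotientGroup.mk_surjective q
        by_cases hg1 : g ∈ c.S
        · exact ⟨0, (if_pos rfl).trans ((QuotientGroup.eq_one_iff (⟨g, hg⟩ : N)).2 hg1).symm⟩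
        · refine ⟨1, (if_neg (by decide)).trans (QuotientGroup.eq.2
            (show (⟨m, hm⟩ : N)⁻¹ * ⟨g, hg⟩ ∈ c.S.subgroupOf N from ?_))⟩
          show m⁻¹ * g ∈ c.S
          refine c.mem_of_commute hC hs hs1 ?_
          have e1 := c.inverts hC hm hm1 (hall m hm) hs
          have e2 := c.inverts hC hg hg1 (hall g hg) hs
          calc m⁻¹ * g * s = m⁻¹ * (g * s * g⁻¹) * g := by group
            _ = m⁻¹ * (m * s * m⁻¹) * g := by rw [e1, e2]
            _ = s * (m⁻¹ * g) := by group)
    rw [show Nat.card (N ⧸ c.S.subgroupOf N) = 4 from h4, Nat.card_eq_fintype_card,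
      Fintype.card_fin] at hle
    omega
  -- forty pairs of inverse elements of order three
  have h80 : 80 ≤ Nat.card {g : G // orderOf g = 3} := by
    have hinj : Function.Injective fun p : (G ⧸ N) × {s : c.S // s ≠ 1} =>
        (⟨p.1.out * (p.2.1 : G) * p.1.out⁻¹, by
          rw [Small.orderOf_conj_eq]
          exact orderOf_eq_prime (c.pow_three p.2.1.2) fun e => p.2.2 (Subtype.ext e)⟩ :
          {g : G // orderOf g = 3}) := by
      rintro ⟨q, s⟩ ⟨q', s'⟩ e
      have e' : q.out * (s.1 : G) * q.out⁻¹ = q'.out * (s'.1 : G) * q'.out⁻¹ :=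
        congrArg Subtype.val e
      have hqq : q = q' := by
        rw [← QuotientGroup.out_eq' q, ← QuotientGroup.out_eq' q']
        refine (QuotientGroup.eq.2 ?_).symm
        refine c.mem_normalizer_of_conj s.1.2 (fun e => s.2 (Subtype.ext e)) ?_
        rw [show q'.out⁻¹ * q.out * (s.1 : G) * (q'.out⁻¹ * q.out)⁻¹ =
          q'.out⁻¹ * (q.out * (s.1 : G) * q.out⁻¹) * q'.out by group, e']
        simpa [mul_assoc] using s'.1.2
      subst hqq
      exact Prod.ext rfl (Subtype.ext (Subtype.ext (mul_left_cancel (mul_right_cancel e'))))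
    have h80' := Nat.card_le_card_of_injective _ hinj
    haveI := Fintype.ofFinite c.S
    rw [Nat.card_prod, show Nat.card (G ⧸ N) = 10 from h,
      Nat.card_eq_fintype_card (α := {s : c.S // s ≠ 1}), Fintype.card_subtype_compl,
      Fintype.card_subtype_eq, ← Nat.card_eq_fintype_card, c.card_eq] at h80'
    omega
  haveI : Nontrivial G := (Finite.one_lt_card_iff_nontrivial.1 (by omega))
  refine ⟨fun H hH => ?_⟩
  haveI := hH
  by_cases hHS : ∀ s ∈ c.S, s ∈ H → s = 1
  · left
    have h9 := c.nine_dvd_card_subgroup hC hHS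
    have hdvd : Nat.card H ∣ 40 := by
      have h1 := Subgroup.card_subgroup_dvd_card H
      rw [hcard] at h1
      refine Nat.Coprime.dvd_of_dvd_mul_right (k := Nat.card H) (m := 40) (n := 9) ?_
        (show Nat.card H ∣ 40 * 9 from h1)
      rw [Nat.coprime_comm, show (9 : ℕ) = 3 ^ 2 by norm_num]
      refine Nat.Coprime.pow_left 2 ((Nat.prime_three.coprime_iff_not_dvd).2 fun h3 => ?_)
      obtain ⟨a, ha⟩ := exists_prime_orderOf_dvd_card' 3 h3
      have ha3 : (a : G) ^ 3 = 1 := by
        rw [← show orderOf (a : G) = 3 by rw [Subgroup.orderOf_coe, ha], pow_orderOf_eq_one]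
      obtain ⟨g, hg⟩ := c.exists_conj_mem ha3
      have := conj_eq_one_iff.1 (hHS _ hg (hH.conj_mem _ a.2 g))
      rw [show a = 1 from Subtype.ext this, orderOf_one] at ha
      omega
    have hle := Nat.le_of_dvd (by norm_num) hdvd
    have hpos : 0 < Nat.card H := Nat.card_pos
    rcases (show Nat.card H = 1 ∨ Nat.card H = 10 ∨ Nat.card H = 19 ∨ Nat.card H = 28 ∨
      Nat.card H = 37 by omega) with e | e | e | e | e
    · exact Subgroup.card_eq_one.1 e
    · exfalso
      obtain ⟨P⟩ : Nonempty (Sylow 5 H) := inferInstance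
      have h10 : Nat.card H = 5 ^ 1 * 2 := by rw [e]; norm_num
      have hP : Nat.card P = 5 := by rw [Small.card_sylow_eq h10 (by norm_num), pow_one]
      have hone : Nat.card (Sylow 5 H) = 1 := by
        have h5 := card_sylow_modEq_one 5 H
        have h2 := Nat.le_of_dvd (by norm_num) (Small.card_sylow_dvd (G := H) h10 (by norm_num))
        rw [Nat.ModEq] at h5
        omega
      haveI : Subsingleton (Sylow 5 H) := (Nat.card_eq_one_iff_unique.1 hone).1
      haveI := Sylow.normal_of_subsingleton P
      haveI : (P : Subgroup H).Characteristic := Sylow.characteristic_of_normal P inferInstance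
      haveI : ((P : Subgroup H).map H.subtype).Normal :=
        ConjAct.normal_of_characteristic_of_normal
      exact c.not_normal_prime hC Nat.prime_five (by norm_num) ((P : Subgroup H).map H.subtype)
        (by rw [Subgroup.card_map_of_injective H.subtype_injective, hP])
    all_goals (rw [e] at hdvd; norm_num at hdvd)
  · right
    push Not at hHS
    obtain ⟨s, hs, hsH, hs1⟩ := hHS
    have hw : n * s * n⁻¹ ∈ c.S ⊓ H :=
      ⟨(Subgroup.mem_normalizer_iff.1 hn s).1 hs, hH.conj_mem s hsH n⟩
    have hnot : n * s * n⁻¹ ∉ Subgroup.zpowers s := by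
      intro hz
      obtain ⟨k, hk⟩ := (mem_powers_iff_mem_zpowers (x := s)).2 hz
      have hk' : s ^ k = n * s * n⁻¹ := hk
      have h2 : n * n * s * (n * n)⁻¹ = s ^ (k * k) := by
        rw [pow_mul, hk', conj_pow, hk']; group
      have hkmod : k * k % 3 = 0 ∨ k * k % 3 = 1 := by
        rw [Nat.mul_mod]
        have : k % 3 < 3 := Nat.mod_lt _ (by norm_num)
        interval_cases k % 3 <;> omega
      rw [pow_eq_pow_mod _ (c.pow_three hs)] at h2
      rcases hkmod with e | e <;> rw [e] at h2
      · rw [pow_zero] at h2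
        exact hs1 (conj_eq_one_iff.1 h2)
      · rw [pow_one] at h2
        exact hn2 (c.mem_of_commute hC hs hs1 (mul_inv_eq_iff_eq_mul.1 h2))
    have hSH : c.S ≤ H := by
      have hlt : Subgroup.zpowers s < c.S ⊓ H := lt_of_le_of_ne
        (Subgroup.zpowers_le.2 ⟨hs, hsH⟩) fun e => hnot (e ▸ hw)
      have hd : Nat.card (c.S ⊓ H : Subgroup G) ∣ 3 ^ 2 := by
        have h := Subgroup.card_dvd_of_le (inf_le_left : c.S ⊓ H ≤ c.S)
        rw [c.card_eq] at h
        exact h
      have h3 : Nat.card (Subgroup.zpowers s) = 3 := by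
        rw [Nat.card_zpowers]; exact orderOf_eq_prime (c.pow_three hs) hs1
      obtain ⟨i, hi, ei⟩ := (Nat.dvd_prime_pow Nat.prime_three).1 hd
      have hgt : 3 < Nat.card (c.S ⊓ H : Subgroup G) := h3 ▸ Set.Finite.card_lt_card
        (Set.toFinite _) (SetLike.coe_ssubset_coe.2 hlt)
      have h9 : Nat.card (c.S ⊓ H : Subgroup G) = 9 := by
        interval_cases i <;> simp_all
      exact inf_eq_left.1 (Subgroup.eq_of_le_of_card_ge inf_le_left (by rw [h9, c.card_eq]))
    have h80H : 80 ≤ Nat.card {g : H // orderOf g = 3} := by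
      refine h80.trans (Nat.card_le_card_of_injective (fun g => ⟨⟨g.1, ?_⟩, ?_⟩) fun g g' e => ?_)
      · obtain ⟨a, ha⟩ := c.exists_conj_mem (show g.1 ^ 3 = 1 by
          have := pow_orderOf_eq_one g.1; rwa [g.2] at this)
        have := hH.conj_mem _ (hSH ha) a⁻¹
        rwa [show a⁻¹ * (a * g.1 * a⁻¹) * a⁻¹⁻¹ = g.1 by group] at this
      · rw [← Subgroup.orderOf_coe]; exact g.2
      · exact Subtype.ext (congrArg (fun z : {g : H // orderOf g = 3} => ((z.1 : H) : G)) e)
    haveI := Fintype.ofFinite H
    have h81 : 81 ≤ Nat.card H := by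
      have hlt : Nat.card {g : H // orderOf g = 3} < Nat.card H := by
        rw [Nat.card_eq_fintype_card, Nat.card_eq_fintype_card]
        exact Fintype.card_subtype_lt (x := (1 : H)) (by simp)
      omega
    have h9H : 9 ∣ Nat.card H := c.card_eq ▸ Subgroup.card_dvd_of_le hSH
    have hd := Subgroup.card_subgroup_dvd_card H
    rw [hcard] at hd
    obtain ⟨j, hj⟩ := h9H
    rw [hj] at hd
    have hj40 : j ∣ 40 := Nat.dvd_of_mul_dvd_mul_left (show 0 < 9 by norm_num) (by simpa using hd)
    have hjle := Nat.le_of_dvd (by norm_num) hj40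
    rcases (show j = 10 ∨ j = 20 ∨ j = 40 by
      rw [hj] at h81
      have : 9 ≤ j := by omega
      interval_cases j <;> omega) with rfl | rfl | rfl
    case inr.inr => exact Subgroup.eq_top_of_card_eq H (by rw [hj, hcard])
    all_goals
      exfalso
      obtain ⟨P⟩ : Nonempty (Sylow 5 H) := inferInstance
      have hH5 : ∃ m, Nat.card H = 5 ^ 1 * m ∧ ¬ 5 ∣ m ∧ m ∣ 36 := by
        first
          | exact ⟨18, hj, by norm_num, by norm_num⟩
          | exact ⟨36, hj, by norm_num, by norm_num⟩
      obtain ⟨m, hm, hm5, hm36⟩ := hH5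
      have hP : Nat.card P = 5 := by rw [Small.card_sylow_eq hm hm5, pow_one]
      have hdvd := (Small.card_sylow_dvd (G := H) hm hm5)
      have h5 := card_sylow_modEq_one 5 H
      rw [Nat.ModEq] at h5
      have hle36 := Nat.le_of_dvd (by norm_num) (hdvd.trans hm36)
      have hcases : Nat.card (Sylow 5 H) = 1 ∨ Nat.card (Sylow 5 H) = 6 ∨
          Nat.card (Sylow 5 H) = 36 := by
        have hd36 := hdvd.trans hm36
        generalize Nat.card (Sylow 5 H) = k at hd36 hle36 h5
        interval_cases k <;> omega
      rcases hcases with e | e | e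
      · haveI : Subsingleton (Sylow 5 H) := (Nat.card_eq_one_iff_unique.1 e).1
        haveI := Sylow.normal_of_subsingleton P
        haveI : (P : Subgroup H).Characteristic := Sylow.characteristic_of_normal P inferInstance
        haveI : ((P : Subgroup H).map H.subtype).Normal :=
          ConjAct.normal_of_characteristic_of_normal
        exact c.not_normal_prime hC Nat.prime_five (by norm_num) ((P : Subgroup H).map H.subtype)
          (by rw [Subgroup.card_map_of_injective H.subtype_injective, hP])
      · -- an element of order three normalising the Sylow subgroup centralises it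
        set M := Subgroup.normalizer ((P : Subgroup H) : Set H) with hM
        have h6 : M.index = 6 := P.card_eq_index_normalizer.symm.trans e
        have hMc := Subgroup.card_mul_index M
        rw [h6, hj] at hMc
        obtain ⟨a, ha⟩ := exists_prime_orderOf_dvd_card' (G := M) 3 (by omega)
        obtain ⟨u, hu⟩ := exists_prime_orderOf_dvd_card' (G := (P : Subgroup H)) 5
          (dvd_of_eq hP.symm)
        haveI : IsCyclic (P : Subgroup H) := isCyclic_of_prime_card hP
        let φ : M →* MulAut (P : Subgroup H) := Subgroup.normalizerMonoidHom (P : Subgroup H)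
        have hφ : φ a = 1 := by
          refine orderOf_eq_one_iff.1 (Nat.eq_one_of_dvd_coprimes (a := 3) (b := 4) (by norm_num)
            (ha ▸ orderOf_map_dvd φ a) ?_)
          have h := orderOf_dvd_natCard (φ a)
          rwa [IsCyclic.card_mulAut, hP, Nat.totient_prime Nat.prime_five] at h
        have hc : (a : H) * (u : H) * (a : H)⁻¹ = u :=
          congrArg Subtype.val (DFunLike.congr_fun hφ u)
        have ha' : orderOf (((a : H) : G)) = 3 := by
          rw [Subgroup.orderOf_coe, Subgroup.orderOf_coe, ha]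
        have hu' : orderOf (((u : H) : G)) = 5 := by
          rw [Subgroup.orderOf_coe, Subgroup.orderOf_coe, hu]
        refine c.not_commute_of_order hC Nat.prime_five (by norm_num)
          (by rw [← ha', pow_orderOf_eq_one]) (fun e => ?_) hu'
          (congrArg Subtype.val (mul_inv_eq_iff_eq_mul.1 hc))
        rw [e, orderOf_one] at ha'
        norm_num at ha'
      · have h144 := Small.card_sylow_mul_le_card_orderOf P hP
        rw [e] at h144
        have hdis : Nat.card {g : H // orderOf g = 3} + Nat.card {g : H // orderOf g = 5} ≤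
            Nat.card H := by
          rw [← Nat.card_sum]
          refine Nat.card_le_card_of_injective (Sum.elim Subtype.val Subtype.val) ?_
          refine Subtype.val_injective.sumElim Subtype.val_injective fun x y h => ?_
          have := x.2
          rw [h, y.2] at this
          norm_num at this
        omega

end CfsgLib.SylowThreeNine.Setup
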