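import Cfsg.Agent.Inv53.SymSix
import Cfsg.Agent.AutAlt.Basic

/-!
# An extension of `A₆` in which an outside element centralises an element of order three
-/

set_option autoImplicit false
set_option linter.style.haveILetI false

namespace CfsgLib.SylowThreeNine

universe u

/-- A group of order 720 with a self-centralising normal `A₆` and such an element is `S₆`. -/
theorem iso_symSix {G : Type u} [Group G] [Finite G] (H : Subgroup G) [H.Normal]
    (e : H ≃* alternatingGroup (Fin 6)) (hG : Nat.card G = 720)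
    (hfaith : ∀ g : G, (∀ h ∈ H, g * h = h * g) → g = 1) {r a : G} (hr : r ∉ H) (ha : a ∈ H)
    (ha3 : orderOf a = 3) (hra : r * a = a * r) : Nonempty (G ≃* Equiv.Perm (Fin 6)) := by
  classical
  have hH : Nat.card H = 360 := by
    rw [Nat.card_congr e.toEquiv, nat_card_alternatingGroup, Nat.card_fin]
    decide
  have hidx : H.index = 2 := by
    have := H.card_mul_index
    rw [hH, hG] at this
    omega
  let Θ : G →* MulAut H := MulAut.conjNormal
  let E : MulAut H →* MulAut (alternatingGroup (Fin 6)) := (MulAut.congr e).toMonoidHom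
  let C6 : Equiv.Perm (Fin 6) →* MulAut (alternatingGroup (Fin 6)) := MulAut.conjNormal
  have hEapp : ∀ (f : MulAut H) (g), E f g = e (f (e.symm g)) := fun f g => rfl
  have hH' : ∀ h ∈ H, E (Θ h) ∈ C6.range := by
    intro h hh
    refine ⟨((e ⟨h, hh⟩ : alternatingGroup (Fin 6)) : Equiv.Perm (Fin 6)), ?_⟩
    ext1 x
    rw [hEapp]
    apply Subtype.ext
    rw [MulAut.conjNormal_apply, show Θ h (e.symm x) = ⟨h, hh⟩ * e.symm x * ⟨h, hh⟩⁻¹ from
      Subtype.ext (MulAut.conjNormal_apply _ _), map_mul, map_mul, map_inv, e.apply_symm_apply]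
    rfl
  have hr' : E (Θ r) ∈ C6.range := by
    obtain ⟨σ, hσ⟩ := Inv53.altSix_auto_of_fix (E (Θ r)) (r := e ⟨a, ha⟩)
      (by rw [MulEquiv.orderOf_eq, ← Subgroup.orderOf_coe, ha3]) (by
        rw [hEapp, e.symm_apply_apply]
        congr 1
        apply Subtype.ext
        rw [MulAut.conjNormal_apply]
        exact mul_inv_eq_iff_eq_mul.2 hra)
    refine ⟨σ, ?_⟩
    ext1 x
    exact Subtype.ext ((MulAut.conjNormal_apply σ x).trans (hσ x).symm)
  have hrange : ∀ g : G, E (Θ g) ∈ C6.range := by
    intro g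
    by_cases hg : g ∈ H
    · exact hH' g hg
    · have h : r⁻¹ * g ∈ H := by
        rw [Subgroup.mul_mem_iff_of_index_two hidx]
        exact iff_of_false (fun h => hr (by simpa using inv_mem h)) hg
      rw [show g = r * (r⁻¹ * g) by group, map_mul, map_mul]
      exact mul_mem hr' (hH' _ h)
  have hCinj : Function.Injective C6 := by
    rw [injective_iff_map_eq_one]
    intro σ hσ
    have h' : ∀ g : alternatingGroup (Fin 6), σ * (g : Equiv.Perm (Fin 6)) = g * σ := fun g => by
      have h := congrArg Subtype.val (DFunLike.congr_fun hσ g)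
      rw [MulAut.conjNormal_apply] at h
      exact mul_inv_eq_iff_eq_mul.1 h
    by_contra hne
    obtain ⟨p, hp⟩ : ∃ p, σ p ≠ p := by
      by_contra h
      push Not at h
      exact hne (Equiv.ext h)
    have hcard : 1 < (Finset.univ \ ({p, σ p} : Finset (Fin 6))).card := by
      rw [Finset.card_sdiff, Finset.card_univ, Finset.inter_univ, Finset.card_pair (Ne.symm hp),
        Fintype.card_fin]
      norm_num
    obtain ⟨b, hb, c, hc, hbc⟩ := Finset.one_lt_card.1 hcard
    simp only [Finset.mem_sdiff, Finset.mem_univ, true_and, Finset.mem_insert, Finset.mem_singleton,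
      not_or] at hb hc
    have h3 := AutAlt.cyc_isThreeCycle (Ne.symm hb.1) (Ne.symm hc.1) hbc
    have h := congrArg (fun π : Equiv.Perm (Fin 6) => π p) (h' ⟨_, h3.mem_alternatingGroup⟩)
    simp only [Equiv.Perm.mul_apply] at h
    rw [AutAlt.cyc_apply_left (Ne.symm hb.1) (Ne.symm hc.1),
      AutAlt.cyc_apply_of_ne hp (Ne.symm hb.2) (Ne.symm hc.2)] at h
    exact hb.1 (σ.injective h)
  let ψ : G →* Equiv.Perm (Fin 6) :=
    (MonoidHom.ofInjective hCinj).symm.toMonoidHom.comp ((E.comp Θ).codRestrict C6.range hrange)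
  have hψ : Function.Injective ψ := by
    rw [injective_iff_map_eq_one]
    intro g hg
    have h1 : E (Θ g) = 1 := congrArg Subtype.val
      ((MonoidHom.ofInjective hCinj).symm.injective (hg.trans (map_one _).symm))
    have hΘ : Θ g = 1 := (MulAut.congr e).injective (h1.trans (map_one _).symm)
    refine hfaith g fun h hh => ?_
    have := congrArg Subtype.val (DFunLike.congr_fun hΘ ⟨h, hh⟩)
    rw [MulAut.conjNormal_apply] at this
    exact mul_inv_eq_iff_eq_mul.1 this
  refine ⟨MulEquiv.ofBijective ψ ((Nat.bijective_iff_injective_and_card ψ).2 ⟨hψ, ?_⟩)⟩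
  rw [hG, Nat.card_perm, Nat.card_fin]
  rfl

end CfsgLib.SylowThreeNine
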