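import Mathlib.GroupTheory.Sylow
import Mathlib.GroupTheory.SpecificGroups.Cyclic
import Mathlib.GroupTheory.SpecificGroups.Dihedral
import Mathlib.Tactic

/-!
# A dihedral automizer excludes a cyclic Sylow subgroup of order nine
-/

set_option autoImplicit false
set_option linter.style.haveILetI false

namespace CfsgLib.SylowThreeNine

universe u

/-- A self-centralising subgroup of order nine with automizer of order eight has exponent three. -/
theorem exp_three_of_dihedral {G : Type u} [Group G] [Finite G] {S : Subgroup G}
    (hcard : Nat.card S = 9) (hC : Subgroup.centralizer (S : Set G) = S)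
    (eN : Subgroup.normalizer (S : Set G) ⧸ S.subgroupOf (Subgroup.normalizer (S : Set G)) ≃*
      DihedralGroup 4) : ∀ a ∈ S, a * a * a = 1 := by
  intro a ha
  by_contra hne
  have hord : orderOf (⟨a, ha⟩ : S) = 9 := by
    obtain ⟨i, hi, e⟩ := (Nat.dvd_prime_pow Nat.prime_three).1
      (show orderOf (⟨a, ha⟩ : S) ∣ 3 ^ 2 from (orderOf_dvd_natCard _).trans hcard.dvd)
    interval_cases i
    · exact absurd (congrArg Subtype.val (orderOf_eq_one_iff.1 e)) fun h => hne (by
        rw [show a = 1 from h, one_mul, one_mul])
    · refine absurd (congrArg Subtype.val (pow_orderOf_eq_one (⟨a, ha⟩ : S))) fun h => hne ?_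
      rw [e] at h
      simpa [pow_succ] using h
    · exact e
  haveI : IsCyclic S := isCyclic_of_orderOf_eq_card ⟨a, ha⟩ (by rw [hord, hcard])
  set N := Subgroup.normalizer (S : Set G) with hN
  haveI : (S.subgroupOf N).Normal := Subgroup.normal_in_normalizer
  have hker : (Subgroup.normalizerMonoidHom S).ker = S.subgroupOf N := by
    rw [Subgroup.normalizerMonoidHom_ker]
    ext g
    rw [Subgroup.mem_subgroupOf, Subgroup.mem_subgroupOf, hC]
  have hdvd : (S.subgroupOf N).index ∣ 6 := by
    rw [← hker, Subgroup.index_ker]
    refine (Subgroup.card_subgroup_dvd_card _).trans ?_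
    rw [IsCyclic.card_mulAut, hcard]
    decide
  have h8 : (S.subgroupOf N).index = 8 := by
    show Nat.card (N ⧸ S.subgroupOf N) = 8
    rw [Nat.card_congr eN.toEquiv, DihedralGroup.nat_card]
  rw [h8] at hdvd
  norm_num at hdvd

end CfsgLib.SylowThreeNine
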