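import Mathlib.GroupTheory.Sylow
import Mathlib.GroupTheory.SpecificGroups.Cyclic
import Mathlib.Tactic

/-!
# An abelian Sylow 3-subgroup of order nine containing the centralisers of its elements

If the centraliser of every nontrivial element of `S` normalises `S`, two elements of order three
whose product has order three either lie in `S` with it, or are conjugate to its inverse.
-/

set_option autoImplicit false
set_option linter.style.haveILetI false

namespace CfsgLib.SylowThreeNine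

universe u

variable {G : Type u} [Group G]

/-- Two elements of order three whose product has order three: the translations form an abelian
subgroup normalised by the product. -/
theorem exists_translations {x y : G} (hx : x * x * x = 1) (hy : y * y * y = 1)
    (hyx : y⁻¹ * x * (y⁻¹ * x) * (y⁻¹ * x) = 1) :
    ∃ A : Subgroup G, IsMulCommutative A ∧ (∀ w ∈ A, x * w * x⁻¹ ∈ A) ∧ x * y ∈ A ∧
      x * y * (x * (x * y) * x⁻¹) * (x * (x * (x * y) * x⁻¹) * x⁻¹) = 1 := by
  have hxi : x⁻¹ = x * x := inv_eq_of_mul_eq_one_left hx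
  set r := y⁻¹ with hr
  have hr3 : r * r * r = 1 := by
    calc r * r * r = (y * y * y)⁻¹ := by rw [hr]; group
      _ = 1 := by rw [hy, inv_one]
  set a := r * x⁻¹ with ha
  set b := x * a * x⁻¹ with hb
  set d := x * b * x⁻¹ with hd
  have e1 : a * b * d = 1 := by
    calc a * b * d = r * r * r * (x * x * x)⁻¹ := by rw [hd, hb, ha]; group
      _ = 1 := by rw [hr3, hx, inv_one, one_mul]
  have e2 : d * b * a = 1 := by
    calc d * b * a = x * x * r * (x⁻¹ * x⁻¹) * r * (x⁻¹ * x⁻¹) * r * x⁻¹ := by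
          rw [hd, hb, ha]; group
      _ = x * (x * (r * x * (r * x) * (r * x)) * x⁻¹) * x⁻¹ := by
          rw [show x⁻¹ * x⁻¹ = x by rw [← mul_inv_rev, ← hxi, inv_inv]]
          group
      _ = 1 := by rw [hyx, mul_one, mul_inv_cancel, mul_one, mul_inv_cancel]
  have hab : a * b = b * a := by
    rw [eq_inv_of_mul_eq_one_left e1]
    exact (eq_inv_of_mul_eq_one_right (show d * (b * a) = 1 by rw [← mul_assoc]; exact e2)).symm
  haveI hcomm : IsMulCommutative (Subgroup.closure ({a, b} : Set G)) :=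
    Subgroup.isMulCommutative_closure (by
      rintro u (rfl | rfl) v (rfl | rfl)
      · rfl
      · exact hab
      · exact hab.symm
      · rfl)
  have hle : Subgroup.closure ({a, b} : Set G) ≤
      (Subgroup.closure ({a, b} : Set G)).comap (MulAut.conj x).toMonoidHom := by
    refine (Subgroup.closure_le _).2 ?_
    rintro w (rfl | rfl)
    · exact Subgroup.subset_closure (Or.inr rfl)
    · show d ∈ Subgroup.closure ({a, b} : Set G)
      rw [eq_inv_of_mul_eq_one_right e1]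
      exact inv_mem (mul_mem (Subgroup.subset_closure (Or.inl rfl))
        (Subgroup.subset_closure (Or.inr rfl)))
  have hxy : x * y = a⁻¹ := by rw [ha, hr]; group
  refine ⟨_, hcomm, fun w hw => hle hw, ?_, ?_⟩
  · rw [hxy]; exact inv_mem (Subgroup.subset_closure (Or.inl rfl))
  · rw [hxy]
    calc a⁻¹ * (x * a⁻¹ * x⁻¹) * (x * (x * a⁻¹ * x⁻¹) * x⁻¹) = (d * b * a)⁻¹ := by
          rw [hd, hb]; group
      _ = 1 := by rw [e2, inv_one]

variable [Finite G]

/-- In an abelian group of order prime to three, a translation is conjugate to the original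
element. -/
theorem isConj_inv_of_translation {x y : G} {A : Subgroup G} (hA : IsMulCommutative A)
    (hxA : ∀ w ∈ A, x * w * x⁻¹ ∈ A) (h3 : ¬ 3 ∣ Nat.card A) (hy : x * y ∈ A)
    (hnorm : x * y * (x * (x * y) * x⁻¹) * (x * (x * (x * y) * x⁻¹) * x⁻¹) = 1) :
    IsConj x⁻¹ y := by
  let σ : A →* A :=
    { toFun := fun w => ⟨x * w * x⁻¹, hxA w w.2⟩
      map_one' := Subtype.ext (by simp)
      map_mul' := fun v w => Subtype.ext (show x * ((v : G) * w) * x⁻¹ =
        x * (v : G) * x⁻¹ * (x * (w : G) * x⁻¹) by group) }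
  let δ : A →* A :=
    { toFun := fun w => σ w * w⁻¹
      map_one' := by simp
      map_mul' := fun v w => by
        rw [map_mul, mul_inv_rev]
        calc σ v * σ w * (w⁻¹ * v⁻¹) = σ v * (σ w * w⁻¹ * v⁻¹) := by group
          _ = σ v * (v⁻¹ * (σ w * w⁻¹)) := by rw [hA.is_comm.comm (σ w * w⁻¹)]
          _ = _ := by group }
  set a : A := ⟨x * y, hy⟩ with ha
  have hn : a * σ a * σ (σ a) = 1 := Subtype.ext hnorm
  have hcube : a ^ 3 ∈ δ.range := by
    refine ⟨a⁻¹ * (a * σ a)⁻¹, ?_⟩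
    show σ (a⁻¹ * (a * σ a)⁻¹) * (a⁻¹ * (a * σ a)⁻¹)⁻¹ = a ^ 3
    have e : σ (σ a) = (a * σ a)⁻¹ := eq_inv_of_mul_eq_one_right hn
    have hc : ∀ p q : A, p * q = q * p := hA.is_comm.comm
    simp only [map_mul, map_inv, mul_inv_rev, inv_inv, e, pow_succ, pow_zero, one_mul]
    calc (σ a)⁻¹ * (a * σ a * (σ a)⁻¹) * (a * σ a * a)
        = (σ a)⁻¹ * a * (a * σ a * a) := by group
      _ = a * (σ a)⁻¹ * (a * σ a * a) := by rw [hc (σ a)⁻¹ a]
      _ = a * (σ a)⁻¹ * (σ a * a * a) := by rw [hc a (σ a)]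
      _ = _ := by group
  have hmem : a ∈ δ.range := by
    have hco : (orderOf a).Coprime 3 := ((Nat.prime_three.coprime_iff_not_dvd).2
      fun h => h3 (h.trans (orderOf_dvd_natCard a))).symm
    obtain ⟨m, hm⟩ := exists_pow_eq_self_of_coprime hco.symm
    rw [← hm]
    exact pow_mem hcube m
  obtain ⟨w, hw⟩ := hmem
  have hw' : x * (w : G) * x⁻¹ * (w : G)⁻¹ = x * y := congrArg Subtype.val hw
  refine isConj_iff.2 ⟨(w : G), ?_⟩
  calc (w : G) * x⁻¹ * (w : G)⁻¹ = x⁻¹ * (x * (w : G) * x⁻¹ * (w : G)⁻¹) := by group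
    _ = y := by rw [hw', inv_mul_cancel_left]

/-- An abelian Sylow 3-subgroup of order nine and exponent three, equal to its centraliser, whose
nontrivial elements have centralisers normalising it. -/
structure Setup (G : Type u) [Group G] where
  S : Subgroup G
  card_eq : Nat.card S = 9
  exp : ∀ a ∈ S, a * a * a = 1
  comm : ∀ a ∈ S, ∀ b ∈ S, a * b = b * a
  not_dvd : ¬ 27 ∣ Nat.card G
  cent : ∀ s ∈ S, s ≠ 1 → Subgroup.centralizer ({s} : Set G) ≤ Subgroup.normalizer (S : Set G)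

namespace Setup

variable (c : Setup G)

theorem isPGroup : IsPGroup 3 c.S :=
  IsPGroup.of_card (n := 2) (by rw [c.card_eq]; norm_num)

theorem pow_three {a : G} (ha : a ∈ c.S) : a ^ 3 = 1 := by
  rw [pow_succ, pow_two]; exact c.exp a ha

theorem card_le (c : Setup G) {Q : Subgroup G} (hQ : IsPGroup 3 Q) : Nat.card Q ≤ 9 := by
  haveI : Fact (Nat.Prime 3) := ⟨Nat.prime_three⟩
  obtain ⟨k, hk⟩ := IsPGroup.iff_card.1 hQ
  rw [hk]
  by_contra h
  have h3 : 3 ≤ k := by
    by_contra h3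
    have := Nat.pow_le_pow_right (show 0 < 3 by norm_num) (show k ≤ 2 by omega)
    omega
  exact c.not_dvd ((pow_dvd_pow 3 h3).trans (hk ▸ Subgroup.card_subgroup_dvd_card Q))

/-- An element of order three normalising `S` lies in it. -/
theorem mem_of_normalizes {y : G} (hy : y ^ 3 = 1)
    (hN : y ∈ Subgroup.normalizer (c.S : Set G)) : y ∈ c.S := by
  haveI : Fact (Nat.Prime 3) := ⟨Nat.prime_three⟩
  have hp : IsPGroup 3 (Subgroup.zpowers y) := by
    obtain ⟨i, -, hi⟩ := (Nat.dvd_prime_pow Nat.prime_three).1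
      (show orderOf y ∣ 3 ^ 1 by rw [pow_one]; exact orderOf_dvd_of_pow_eq_one hy)
    exact IsPGroup.of_card (n := i) (by rw [Nat.card_zpowers, hi])
  have h := hp.to_sup_of_normal_right' c.isPGroup (Subgroup.zpowers_le.2 hN)
  have heq : c.S = Subgroup.zpowers y ⊔ c.S :=
    Subgroup.eq_of_le_of_card_ge le_sup_right (by rw [c.card_eq]; exact c.card_le h)
  rw [heq]
  exact Subgroup.mem_sup_left (Subgroup.mem_zpowers y)

/-- `S` is the only Sylow subgroup through any of its nontrivial elements. -/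
theorem le_of_mem {Q : Subgroup G} (hQ : IsPGroup 3 Q) {s : G} (hsQ : s ∈ Q) (hs : s ∈ c.S)
    (hs1 : s ≠ 1) : Q ≤ c.S := by
  haveI : Fact (Nat.Prime 3) := ⟨Nat.prime_three⟩
  have hcomm : IsMulCommutative Q := by
    obtain ⟨k, hk⟩ := IsPGroup.iff_card.1 hQ
    have hle := c.card_le hQ
    rw [hk] at hle
    have hk2 : k ≤ 2 := by
      by_contra h
      have := Nat.pow_le_pow_right (show 0 < 3 by norm_num) (show 3 ≤ k by omega)
      omega
    interval_cases k
    · haveI : Subsingleton Q := (Nat.card_eq_one_iff_unique.1 (by rw [hk, pow_zero])).1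
      exact ⟨⟨fun a b => Subsingleton.elim _ _⟩⟩
    · rw [pow_one] at hk
      haveI := isCyclic_of_prime_card hk
      exact ⟨⟨fun a b => IsCyclic.commGroup.mul_comm a b⟩⟩
    · exact ⟨⟨IsPGroup.commutative_of_card_eq_prime_sq (p := 3) hk⟩⟩
  intro q hq
  refine c.mem_of_normalizes ?_ (c.cent s hs hs1 (Subgroup.mem_centralizer_singleton_iff.2
    (congrArg Subtype.val (hcomm.is_comm.comm (⟨q, hq⟩ : Q) ⟨s, hsQ⟩))))
  by_cases hq1 : q = 1
  · rw [hq1, one_pow]
  obtain ⟨k, hk⟩ := hQ ⟨q, hq⟩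
  have hk' : q ^ 3 ^ k = 1 := congrArg Subtype.val hk
  -- `q` normalises `S`, so it lies in a 3-group with `S`, of exponent three
  have hp : IsPGroup 3 (Subgroup.zpowers q) := by
    obtain ⟨i, -, hi⟩ := (Nat.dvd_prime_pow Nat.prime_three).1 (orderOf_dvd_of_pow_eq_one hk')
    exact IsPGroup.of_card (n := i) (by rw [Nat.card_zpowers, hi])
  have h := hp.to_sup_of_normal_right' c.isPGroup (Subgroup.zpowers_le.2
    (c.cent s hs hs1 (Subgroup.mem_centralizer_singleton_iff.2
      (congrArg Subtype.val (hcomm.is_comm.comm (⟨q, hq⟩ : Q) ⟨s, hsQ⟩)))))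
  have heq : c.S = Subgroup.zpowers q ⊔ c.S :=
    Subgroup.eq_of_le_of_card_ge le_sup_right (by rw [c.card_eq]; exact c.card_le h)
  exact c.pow_three (by rw [heq]; exact Subgroup.mem_sup_left (Subgroup.mem_zpowers q))

/-- Fusion in `S` is induced by its normaliser. -/
theorem mem_normalizer_of_conj {s g : G} (hs : s ∈ c.S) (hs1 : s ≠ 1) (hg : g * s * g⁻¹ ∈ c.S) :
    g ∈ Subgroup.normalizer (c.S : Set G) := by
  have h1 : g * s * g⁻¹ ∈ c.S.map (MulAut.conj g).toMonoidHom := ⟨s, hs, rfl⟩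
  have hle := c.le_of_mem (c.isPGroup.map _) h1 hg fun e => hs1 (conj_eq_one_iff.1 e)
  refine Subgroup.mem_normalizer_iff.2 fun y => ⟨fun hy => hle ⟨y, hy, rfl⟩, fun hy => ?_⟩
  have heq : c.S.map (MulAut.conj g).toMonoidHom = c.S := Subgroup.eq_of_le_of_card_ge hle
    (Subgroup.card_map_of_injective (MulAut.conj g).injective).ge
  rw [← heq] at hy
  obtain ⟨z, hz, e⟩ := hy
  rwa [← (MulAut.conj g).injective (show MulAut.conj g z = MulAut.conj g y from e)]

/-- If the translations have order divisible by three the factors lie in `S`. -/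
theorem mem_of_three_dvd {x y : G} (hx : x ∈ c.S) (hx1 : x ≠ 1) (hy : y ^ 3 = 1) {A : Subgroup G}
    (hA : IsMulCommutative A) (hxA : ∀ w ∈ A, x * w * x⁻¹ ∈ A) (hyA : x * y ∈ A)
    (h3 : 3 ∣ Nat.card A) : y ∈ c.S := by
  haveI : Fact (Nat.Prime 3) := ⟨Nat.prime_three⟩
  let A3 : Subgroup G :=
    { carrier := {w | w ∈ A ∧ w ^ 3 = 1}
      one_mem' := ⟨one_mem A, one_pow 3⟩
      mul_mem' := fun {v w} hv hw => ⟨mul_mem hv.1 hw.1, by
        have hc : v * w = w * v := congrArg Subtype.val (hA.is_comm.comm ⟨v, hv.1⟩ ⟨w, hw.1⟩)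
        rw [Commute.mul_pow hc, hv.2, hw.2, one_mul]⟩
      inv_mem' := fun {v} hv => ⟨inv_mem hv.1, by rw [inv_pow, hv.2, inv_one]⟩ }
  have hA3 : IsPGroup 3 A3 := fun w => ⟨1, Subtype.ext (by rw [pow_one]; exact w.2.2)⟩
  have hxN : x ∈ Subgroup.normalizer (A3 : Set G) := by
    refine Subgroup.mem_normalizer_iff.2 fun w => ?_
    have key : ∀ v ∈ A3, x * v * x⁻¹ ∈ A3 := fun v hv =>
      ⟨hxA v hv.1, by rw [conj_pow, hv.2, mul_one, mul_inv_cancel]⟩
    refine ⟨key w, fun hw => ?_⟩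
    have h2 := key _ (key _ hw)
    rwa [show x * (x * (x * w * x⁻¹) * x⁻¹) * x⁻¹ = x * x * x * w * (x * x * x)⁻¹ by group,
      c.exp x hx, one_mul, inv_one, mul_one] at h2
  have hp : IsPGroup 3 (Subgroup.zpowers x) :=
    IsPGroup.of_card (n := 1) (by
      rw [Nat.card_zpowers, pow_one]; exact orderOf_eq_prime (c.pow_three hx) hx1)
  have hle := c.le_of_mem (hp.to_sup_of_normal_right' hA3 (Subgroup.zpowers_le.2 hxN))
    (Subgroup.mem_sup_left (Subgroup.mem_zpowers x)) hx hx1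
  obtain ⟨u, hu⟩ := exists_prime_orderOf_dvd_card' (G := A) 3 h3
  have hu3 : orderOf (u : G) = 3 := by rw [Subgroup.orderOf_coe, hu]
  have huS : (u : G) ∈ c.S := hle (Subgroup.mem_sup_right
    (show (u : G) ∈ A3 from ⟨u.2, by rw [← hu3, pow_orderOf_eq_one]⟩))
  have hu1 : (u : G) ≠ 1 := fun e => by rw [e, orderOf_one] at hu3; omega
  have hxy : x * y ∈ Subgroup.normalizer (c.S : Set G) :=
    c.cent _ huS hu1 (Subgroup.mem_centralizer_singleton_iff.2
      (congrArg Subtype.val (hA.is_comm.comm ⟨x * y, hyA⟩ u)))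
  refine c.mem_of_normalizes hy ?_
  have := mul_mem (inv_mem (Subgroup.le_normalizer hx)) hxy
  rwa [inv_mul_cancel_left] at this

/-- The factors of a product of two elements of order three. -/
theorem mem_or_isConj {x y : G} (hx : x ∈ c.S) (hx1 : x ≠ 1) (hy : y ^ 3 = 1)
    (hz : (y⁻¹ * x) ^ 3 = 1) :
    y ∈ c.S ∨ IsConj x⁻¹ y ∧ IsConj x⁻¹ (y⁻¹ * x) := by
  have cube : ∀ {w : G}, w ^ 3 = 1 → w * w * w = 1 := fun {w} h => by
    rw [← pow_two, ← pow_succ]; exact h
  obtain ⟨A, hA, hxA, hyA, hn⟩ := exists_translations (c.exp x hx) (cube hy) (cube hz)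
  have hxi : x⁻¹ ∈ c.S := inv_mem hx
  set z := y⁻¹ * x with hz'
  have hzi : z⁻¹ ^ 3 = 1 := by rw [inv_pow, hz, inv_one]
  obtain ⟨B, hB, hxB, hzB, hm⟩ := exists_translations (c.exp _ hxi) (cube hzi)
    (show z⁻¹⁻¹ * x⁻¹ * (z⁻¹⁻¹ * x⁻¹) * (z⁻¹⁻¹ * x⁻¹) = 1 from cube (by
      rw [inv_inv, hz', mul_inv_cancel_right, inv_pow, hy, inv_one]))
  by_cases h3 : 3 ∣ Nat.card A
  · exact Or.inl (c.mem_of_three_dvd hx hx1 hy hA hxA hyA h3)
  by_cases h3' : 3 ∣ Nat.card B
  · left
    have h := c.mem_of_three_dvd hxi (inv_ne_one.2 hx1) hzi hB hxB hzB h3'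
    have h2 := mul_mem hx h
    rwa [hz', mul_inv_rev, inv_inv, mul_inv_cancel_left] at h2
  · refine Or.inr ⟨isConj_inv_of_translation hA hxA h3 hyA hn, ?_⟩
    obtain ⟨g, hg⟩ := isConj_iff.1 (isConj_inv_of_translation hB hxB h3' hzB hm)
    refine isConj_iff.2 ⟨g, ?_⟩
    rw [inv_inv] at hg
    have h := congrArg (·⁻¹) hg
    simp only [inv_inv] at h
    rw [← h, conj_inv]

end Setup

end CfsgLib.SylowThreeNine
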